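import Cfsg.Agent.StdRank2.UClose.Aut_m3
import Cfsg.Agent.StdRank2.UTFour_m3
import Cfsg.Agent.StdSpFour.Fld_m3
import Mathlib.GroupTheory.PGroup
import Mathlib.GroupTheory.Commutator.Basic
import Mathlib.Algebra.Group.Subgroup.Pointwise
import Mathlib.GroupTheory.Subgroup.Centralizer
import Mathlib.SetTheory.Cardinal.NatCard
import Cfsg.Agent.StdRank2.UFour.MoverG_m3
import Cfsg.Agent.StdEven.Red_m3
import Cfsg.Agent.FastGrp
import Cfsg.Agent.Prune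
set_option linter.all false

section
prune_inst 0xfcfefbadf8afffdfff7ffffeffdffdfdfdfffffffffdcbfffce1ffcfdf4f0aedc5ab8d8ff85aff1ff762b414f87b53ffffefffeb6bdc7ffffd5ff41ffbff8fedf7b58951dc8cb40fbc0fff03f07fce7f3fffffffffffffffffffffffffffbeffffffffffff

-- part: StdRank2/SpJe
section
prune_inst 0x20104400110002000000001000002000000000000020000000a002000a004100204701003810040000102e8048080000010000404008000000000800000401000020000200000000020008008000000000000000000000000000000000000000000000000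
set_option linter.all false
open scoped Cfsg.Agent.FastGrp

/-!
# Type `Sp₄(F)`, `|F| ≥ 4` even: automorphisms of `A` and elementary abelian subgroups of `U`

`swap_card`: an automorphism interchanging `V_I` and `V_J` fixes at most `q²` elements of an elementary abelian
subgroup of `U`.
`fld_card`: an automorphism of field type `ρ`, `ρ² = 1 ≠ ρ` fixes at most `q^{3/2}` of them.
`inner_of_one`, `inner_of_mul`: involutory automorphisms of type `1`, products of two commuting ones of type `≠ 1`.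
-/

set_option autoImplicit false
set_option linter.unusedSectionVars false

namespace Cfsg.Agent.StdRank2.SpJe

open Subgroup
open Cfsg.Agent.TitsThree.B2Pkg Cfsg.Agent.TitsThree.RankTwoIdentB2
  Cfsg.Agent.TitsThree.CoreB2 Cfsg.Agent.TitsThree.RankTwoIdx Cfsg.Agent.TitsThree.RankTwoRGD
  Cfsg.Agent.TitsThree.StdData
open Cfsg.Agent.StdRank2.OddLift Cfsg.Agent.StdRank2.B2Lift Cfsg.Agent.StdRank2.B2Std
  Cfsg.Agent.StdRank2.B2Torus Cfsg.Agent.StdRank2.B2Act Cfsg.Agent.StdRank2.B2Act.Std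
  Cfsg.Agent.StdRank2.B2Par Cfsg.Agent.StdRank2.B2Par.Std Cfsg.Agent.StdRank2.B2Self
  Cfsg.Agent.StdRank2.OutB2Par Cfsg.Agent.StdRank2.OutB2Grade Cfsg.Agent.StdRank2.OutB2Aut
  Cfsg.Agent.StdRank2.OutB2Tw Cfsg.Agent.StdRank2.OutB2Data Cfsg.Agent.StdRank2.OutB2Decomp
  Cfsg.Agent.StdRank2.SpFrame Cfsg.Agent.StdRank2.SpSelf

universe u

/-! ### Counting -/

/-- Counting along a coordinate. -/
theorem card_le_mul {G : Type*} [Group G] [Finite G] {F : Type*} [Finite F] (H K : Subgroup G) (S0 : Set F)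
    (R : G → F → Prop) (h1 : ∀ x ∈ H, ∃ a ∈ S0, R x a)
    (h2 : ∀ x ∈ H, ∀ y ∈ H, ∀ a, R x a → R y a → x⁻¹ * y ∈ K) :
    Nat.card H ≤ Nat.card S0 * Nat.card (H ⊓ K : Subgroup G) := by
  classical
  choose a ha hR using fun x : H => h1 x x.2
  have h3 : ∀ c : F, ∃ y : H, (∃ x : H, a x = c) → a y = c := by
    intro c
    by_cases h : ∃ x : H, a x = c
    · obtain ⟨x, hx⟩ := h
      exact ⟨x, fun _ => hx⟩
    · exact ⟨1, fun h' => absurd h' h⟩
  choose rep hrep using h3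
  rw [← Nat.card_prod]
  apply Nat.card_le_card_of_injective (fun x : H => ((⟨a x, ha x⟩ : S0),
    (⟨(rep (a x) : G)⁻¹ * x, mem_inf.mpr ⟨mul_mem (inv_mem (rep (a x)).2) x.2, by
      apply h2 _ (rep (a x)).2 _ x.2 (a x) _ (hR x)
      have := hR (rep (a x))
      rwa [hrep (a x) ⟨x, rfl⟩] at this⟩⟩ : (H ⊓ K : Subgroup G))))
  intro x y hxy
  have h4 := (Prod.mk.inj hxy).1
  have h5 := (Prod.mk.inj hxy).2
  have e1 : a x = a y := congrArg Subtype.val h4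
  have e2 : (rep (a x) : G)⁻¹ * x = (rep (a y) : G)⁻¹ * y := congrArg Subtype.val h5
  rw [e1] at e2
  exact Subtype.ext (mul_left_cancel e2)

/-- The number of fixed points of `a ↦ c ρ(a)`. -/
theorem card_fix_le {F : Type*} [Field F] [Finite F] (c : F) (ρ : F ≃+* F) :
    Nat.card {a : F | c * ρ a = a} ≤ Nat.card {a : F // ρ a = a} := by
  by_cases h : ∃ a0, a0 ≠ 0 ∧ c * ρ a0 = a0
  · obtain ⟨a0, h0, h1⟩ := h
    have hρ0 : ρ a0 ≠ 0 := (map_ne_zero_iff ρ ρ.injective).2 h0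
    have hc : c ≠ 0 := by
      rintro rfl
      rw [zero_mul] at h1
      exact h0 h1.symm
    apply Nat.card_le_card_of_injective (fun a : {a : F | c * ρ a = a} => (⟨a * a0⁻¹, by
      have h2 : c * ρ (a : F) = a := a.2
      rw [map_mul, map_inv₀]
      have e1 : (ρ a0)⁻¹ = c * a0⁻¹ := by
        have h3 : a0⁻¹ = (ρ a0)⁻¹ * c⁻¹ := by rw [← mul_inv_rev, h1]
        rw [h3, mul_comm (ρ a0)⁻¹, mul_inv_cancel_left₀ hc]
      rw [e1]
      calc ρ (a : F) * (c * a0⁻¹) = (c * ρ (a : F)) * a0⁻¹ := by ring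
        _ = _ := by rw [h2]⟩ : {a : F // ρ a = a}))
    intro a b hab
    have h2 : (a : F) * a0⁻¹ = b * a0⁻¹ := congrArg Subtype.val hab
    exact Subtype.ext (mul_right_cancel₀ (inv_ne_zero h0) h2)
  · push Not at h
    apply Nat.card_le_card_of_injective (fun _ : {a : F | c * ρ a = a} => (⟨0, map_zero ρ⟩ : {a : F // ρ a = a}))
    intro a b _
    have ha : (a : F) = 0 := by
      by_contra h0
      exact h _ h0 a.2
    have hb : (b : F) = 0 := by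
      by_contra h0
      exact h _ h0 b.2
    exact Subtype.ext (ha.trans hb.symm)

variable {F : Type*} [Field F] [Finite F] [CharP F 2]
variable {A : Type u} [Group A] (S : Std (stdSp F) A)

/-! ### Elementary abelian subgroups of `U` -/

theorem nf_sq {a p b q : F} (h : B2Std.nf S.m a (tt p) b (tt q) * B2Std.nf S.m a (tt p) b (tt q) = 1) :
    a = 0 ∨ q = 0 := by
  have hc2 : (2 : F) = 0 := by exact_mod_cast CharP.cast_eq_zero F 2
  rw [mul_sp, ← nf_one S.rel] at h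
  have h3 := (nf_inj_sp S h).2.2.1
  have h4 : a * q = 0 := by linear_combination h3 - b * hc2
  exact mul_eq_zero.mp h4

/-- An involution of `U` is in `V_I` or `V_J`. -/
theorem mem_or {v : A} (hv : v ∈ S.U) (h : v * v = 1) : v ∈ S.VI ∨ v ∈ S.VJ := by
  obtain ⟨a, p, b, q, rfl⟩ := exists_nf_sp S hv
  rcases nf_sq S h with rfl | rfl
  · exact Or.inl (mem_VI_iff.2 ⟨_, _, _, rfl⟩)
  · exact Or.inr (mem_VJ_iff.2 ⟨_, _, _, rfl⟩)

/-- An elementary abelian subgroup of `U` is in `V_I` or `V_J`. -/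
theorem le_or {B : Subgroup A} (hB : B ≤ S.U) (h : ∀ v ∈ B, v * v = 1) : B ≤ S.VI ∨ B ≤ S.VJ := by
  by_contra hcon
  push Not at hcon
  obtain ⟨h1, h2⟩ := hcon
  obtain ⟨x, hx, hxI⟩ := SetLike.not_le_iff_exists.mp h1
  obtain ⟨y, hy, hyJ⟩ := SetLike.not_le_iff_exists.mp h2
  have hxJ := (mem_or S (hB hx) (h x hx)).resolve_left hxI
  have hyI := (mem_or S (hB hy) (h y hy)).resolve_right hyJ
  rcases mem_or S (hB (mul_mem hx hy)) (h _ (mul_mem hx hy)) with h3 | h3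
  · apply hxI
    have : x = x * y * y⁻¹ := by group
    rw [this]
    exact mul_mem h3 (inv_mem hyI)
  · apply hyJ
    have : y = x⁻¹ * (x * y) := by group
    rw [this]
    exact mul_mem (inv_mem hxJ) h3

/-- `|V_I ∩ V_J| ≤ q²`. -/
theorem card_inf_le [Finite A] : Nat.card (S.VI ⊓ S.VJ : Subgroup A) ≤ Nat.card F * Nat.card F := by
  rw [← Nat.card_prod]
  apply Nat.card_le_card_of_surjective (fun p : F × F => (⟨S.m.z₁ (tt p.1) * S.m.y p.2,
    (mem_inf S).2 ⟨_, _, rfl⟩⟩ : (S.VI ⊓ S.VJ : Subgroup A)))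
  rintro ⟨v, hv⟩
  obtain ⟨b, c, rfl⟩ := (mem_inf S).1 hv
  exact ⟨(c, b), rfl⟩

/-! ### Automorphisms -/

section simple

variable [Finite A] [IsSimpleGroup A] {φ : MulAut A}

/-- Automorphisms interchanging `V_I`, `V_J`. -/
theorem swap_card (h1 : ∀ v ∈ S.VI, φ v ∈ S.VJ) (h2 : ∀ v ∈ S.VJ, φ v ∈ S.VI) {B : Subgroup A}
    (hB : B ≤ S.U) (hsq : ∀ v ∈ B, v * v = 1) (hfix : ∀ v ∈ B, φ v = v) :
    Nat.card B ≤ Nat.card F * Nat.card F := by
  refine le_trans ?_ (card_inf_le S)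
  apply Subgroup.card_le_of_le
  intro v hv
  rcases le_or S hB hsq with h | h
  · refine Subgroup.mem_inf.mpr ⟨h hv, ?_⟩
    have := h1 v (h hv)
    rwa [hfix v hv] at this
  · refine Subgroup.mem_inf.mpr ⟨?_, h hv⟩
    have := h2 v (h hv)
    rwa [hfix v hv] at this

/-- The automorphism `conj u * dg c * fd ρ` on normal forms. -/
theorem apply_nf {u : A} {c : Fˣ × Fˣ} {ρ : F ≃+* F} (e : φ = MulAut.conj u * (dg S c * fd nSp S ρ))
    (a p b q : F) : φ (B2Std.nf S.m a (tt p) b (tt q)) =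
      u * B2Std.nf S.m ((c.1 : F) * (c.2 : F)⁻¹ * ρ a) (tt ((c.1 : F) * c.1 * ρ p)) ((c.1 : F) * c.2 * ρ b)
        (tt ((c.2 : F) * c.2 * ρ q)) * u⁻¹ := by
  have h1 := auto_tww nSp S ρ c.1.ne_zero c.2.ne_zero
  have h2 : (Units.mk0 (c.1 : F) c.1.ne_zero, Units.mk0 (c.2 : F) c.2.ne_zero) = c := by
    ext <;> rfl
  rw [h2] at h1
  rw [e, MulAut.mul_apply, ← h1, auto_nf]
  rfl

theorem comm_Z {u : A} (hu : u ∈ S.U) (p b : F) :
    u * B2Std.nf S.m 0 (tt p) b (tt 0) * u⁻¹ = B2Std.nf S.m 0 (tt p) b (tt 0) := by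
  have e1 : B2Std.nf S.m 0 (tt p) b (tt 0) = S.m.z₁ (tt p) * S.m.y b := by
    unfold B2Std.nf
    rw [show S.m.x 0 = 1 from add_zero' S.rel.x_add, ← tt_one, show S.m.z₂ 1 = 1 from mul_one' S.rel.z₂_mul,
      one_mul, mul_one]
  have h1 := z₁_comm_U (S := S) (p := tt p) rfl hu
  have h2 := U_comm_y S hu b
  rw [e1, mul_inv_eq_iff_eq_mul]
  calc u * (S.m.z₁ (tt p) * S.m.y b) = (u * S.m.z₁ (tt p)) * S.m.y b := by group
    _ = S.m.z₁ (tt p) * (u * S.m.y b) := by rw [← h1]; group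
    _ = _ := by rw [h2]; group

/-- `|B ∩ V_I ∩ V_J| ≤ |Fix ρ|²`. -/
theorem card_Z {u : A} (hu : u ∈ S.U) {c : Fˣ × Fˣ} {ρ : F ≃+* F}
    (e : φ = MulAut.conj u * (dg S c * fd nSp S ρ)) {B : Subgroup A} (hB : B ≤ S.VI ⊓ S.VJ)
    (hfix : ∀ v ∈ B, φ v = v) :
    Nat.card B ≤ Nat.card {a : F // ρ a = a} * Nat.card {a : F // ρ a = a} := by
  refine le_trans ?_ (Nat.mul_le_mul (card_fix_le ((c.1 : F) * c.1) ρ) (card_fix_le ((c.1 : F) * c.2) ρ))
  rw [← Nat.card_prod]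
  have h1 : ∀ v : B, ∃ p b : F, (v : A) = B2Std.nf S.m 0 (tt p) b (tt 0) ∧ (c.1 : F) * c.1 * ρ p = p ∧
      (c.1 : F) * c.2 * ρ b = b := by
    intro v
    obtain ⟨b, p, h2⟩ := (mem_inf S).1 (hB v.2)
    have e1 : (v : A) = B2Std.nf S.m 0 (tt p) b (tt 0) := by
      rw [h2]
      unfold B2Std.nf
      rw [show S.m.x 0 = 1 from add_zero' S.rel.x_add, ← tt_one, show S.m.z₂ 1 = 1 from mul_one' S.rel.z₂_mul,
        one_mul, mul_one]
    have h3 := hfix v v.2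
    rw [e1, apply_nf S e, map_zero, mul_zero, mul_zero, comm_Z S hu] at h3
    obtain ⟨-, h4, h5, -⟩ := nf_inj_sp S h3
    exact ⟨p, b, e1, h4, h5⟩
  choose p b h2 h3 h4 using h1
  apply Nat.card_le_card_of_injective (fun v : B => ((⟨p v, h3 v⟩ : {a : F | (c.1 : F) * c.1 * ρ a = a}),
    (⟨b v, h4 v⟩ : {a : F | (c.1 : F) * c.2 * ρ a = a})))
  intro v w hvw
  have e1 : p v = p w := congrArg Subtype.val (Prod.mk.inj hvw).1
  have e2 : b v = b w := congrArg Subtype.val (Prod.mk.inj hvw).2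
  apply Subtype.ext
  rw [h2 v, h2 w, e1, e2]

theorem tt_inj {a b : F} (h : tt a = tt b) : a = b := congrArg PQDatum.T.c h

/-- Automorphisms of field type. -/
theorem fld_card {u : A} (hu : u ∈ S.U) {c : Fˣ × Fˣ} {ρ : F ≃+* F}
    (e : φ = MulAut.conj u * (dg S c * fd nSp S ρ)) {B : Subgroup A} (hB : B ≤ S.U)
    (hsq : ∀ v ∈ B, v * v = 1) (hfix : ∀ v ∈ B, φ v = v) :
    Nat.card B ≤ Nat.card {a : F // ρ a = a} * (Nat.card {a : F // ρ a = a} * Nat.card {a : F // ρ a = a}) := by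
  rcases le_or S hB hsq with h | h
  · -- `B ≤ V_I`
    have h1 := card_le_mul B (S.VI ⊓ S.VJ) {a : F | (c.2 : F) * c.2 * ρ a = a} (fun x a => PZ S x (tt a))
      (by
        intro x hx
        obtain ⟨a, p, b, q, hq⟩ := exists_nf_sp S (hB hx)
        refine ⟨q, ?_, ⟨_, _, _, hq⟩⟩
        have h2 := hfix x hx
        rw [hq, apply_nf S e] at h2
        obtain ⟨r, hr⟩ := exists_PZ hu
        have h3 : PZ S (B2Std.nf S.m a (tt p) b (tt q)) (tt q) := ⟨_, _, _, rfl⟩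
        have h4 := PZ.conj (S := S) (g := B2Std.nf S.m ((c.1 : F) * (c.2 : F)⁻¹ * ρ a)
          (tt ((c.1 : F) * c.1 * ρ p)) ((c.1 : F) * c.2 * ρ b) (tt ((c.2 : F) * c.2 * ρ q)))
          (q := tt ((c.2 : F) * c.2 * ρ q)) ⟨_, _, _, rfl⟩ hr
        rw [h2] at h4
        have h5 := h4.uniq h3
        have h6 : r * tt ((c.2 : F) * c.2 * ρ q) * r⁻¹ = tt ((c.2 : F) * c.2 * ρ q) := by
          rw [← comm_of_w (p := tt ((c.2 : F) * c.2 * ρ q)) rfl r]; group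
        rw [h6] at h5
        exact tt_inj h5)
      (by
        intro x hx y hy a hxa hya
        have h2 := hxa.inv.mul hya
        rw [inv_mul_cancel] at h2
        exact Subgroup.mem_inf.mpr ⟨mul_mem (inv_mem (h hx)) (h hy), mem_VJ_iff.2 h2⟩)
    refine h1.trans (Nat.mul_le_mul (card_fix_le _ ρ) ?_)
    exact card_Z S hu e inf_le_right (fun v hv => hfix v hv.1)
  · -- `B ≤ V_J`
    have h1 := card_le_mul B (S.VI ⊓ S.VJ) {a : F | (c.1 : F) * (c.2 : F)⁻¹ * ρ a = a} (fun x a => PX S x a)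
      (by
        intro x hx
        obtain ⟨a, p, b, q, hq⟩ := exists_nf_sp S (hB hx)
        refine ⟨a, ?_, ⟨_, _, _, hq⟩⟩
        have h2 := hfix x hx
        rw [hq, apply_nf S e] at h2
        have h3 : PX S (B2Std.nf S.m a (tt p) b (tt q)) a := ⟨_, _, _, rfl⟩
        have h4 := PX.conj (S := S) (g := B2Std.nf S.m ((c.1 : F) * (c.2 : F)⁻¹ * ρ a)
          (tt ((c.1 : F) * c.1 * ρ p)) ((c.1 : F) * c.2 * ρ b) (tt ((c.2 : F) * c.2 * ρ q)))
          (a := (c.1 : F) * (c.2 : F)⁻¹ * ρ a) ⟨_, _, _, rfl⟩ hu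
        rw [h2] at h4
        exact h4.uniq h3)
      (by
        intro x hx y hy a hxa hya
        have h2 := hxa.inv.mul hya
        rw [neg_add_cancel] at h2
        exact Subgroup.mem_inf.mpr ⟨mem_VI_iff.2 h2, mul_mem (inv_mem (h hx)) (h hy)⟩)
    refine h1.trans (Nat.mul_le_mul (card_fix_le _ ρ) ?_)
    exact card_Z S hu e inf_le_right (fun v hv => hfix v hv.1)

/-- `φ` acts on `U/V_I` as `k ρ`. -/
structure Fac (φ : MulAut A) (ρ : F ≃+* F) : Prop where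
  I : ∀ v ∈ S.VI, φ v ∈ S.VI
  x : ∃ k : F, k ≠ 0 ∧ ∀ a, PX S (φ (S.m.x a)) (k * ρ a)

variable {S}

theorem Fac.mul {ψ : MulAut A} {ρ τ : F ≃+* F} (h : Fac S φ ρ) (h' : Fac S ψ τ) : Fac S (φ * ψ) (ρ * τ) := by
  refine ⟨fun v hv => h.I _ (h'.I v hv), ?_⟩
  obtain ⟨k, hk, hx⟩ := h.x
  obtain ⟨l, hl, hy⟩ := h'.x
  refine ⟨k * ρ l, mul_ne_zero hk ((map_ne_zero_iff ρ ρ.injective).2 hl), fun a => ?_⟩
  obtain ⟨v, hv, e⟩ := PX.decomp (hy a)
  rw [MulAut.mul_apply, e, map_mul]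
  have h1 := (hx (l * τ a)).mul (mem_VI_iff.1 (h.I v hv))
  rw [add_zero, map_mul, ← mul_assoc] at h1
  exact h1

theorem Fac.uniq {ρ τ : F ≃+* F} (h : Fac S φ ρ) (h' : Fac S φ τ) : ρ = τ := by
  obtain ⟨k, hk, hx⟩ := h.x
  obtain ⟨l, hl, hy⟩ := h'.x
  have h1 : k = l := by
    have := (hx 1).uniq (hy 1)
    rwa [map_one, map_one, mul_one, mul_one] at this
  ext a
  have := (hx a).uniq (hy a)
  rw [h1] at this
  exact mul_left_cancel₀ hl this

theorem Fac.one : Fac S (1 : MulAut A) 1 :=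
  ⟨fun _ hv => hv, 1, one_ne_zero, fun a => by
    rw [one_mul]
    exact PX.x a⟩

theorem Fac.of_decomp {u : A} (hu : u ∈ S.U) {c : Fˣ × Fˣ} {ρ : F ≃+* F} (hI : ∀ v ∈ S.VI, φ v ∈ S.VI)
    (e : φ = MulAut.conj u * (dg S c * fd nSp S ρ)) : Fac S φ ρ := by
  refine ⟨hI, (c.1 : F) * (c.2 : F)⁻¹, mul_ne_zero c.1.ne_zero (inv_ne_zero c.2.ne_zero), fun a => ?_⟩
  have h1 : S.m.x a = B2Std.nf S.m a (tt 0) 0 (tt 0) := by
    rw [x_eq_nf S.rel a, tt_one]
  rw [h1, apply_nf S e]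
  exact PX.conj ⟨_, _, _, rfl⟩ hu

variable (S)

/-- Involutory automorphisms of type `1` are inner. -/
theorem inner_of_one {u : A} (hu : u ∈ S.U) {c : Fˣ × Fˣ} (e : φ = MulAut.conj u * (dg S c * fd nSp S 1))
    (h2 : φ * φ = 1) : φ = MulAut.conj u := by
  have key : ∀ k : F, k * k = 1 → k = 1 := by
    intro k hk
    rcases mul_self_eq_one_iff.mp hk with h | h
    · exact h
    · rw [h, CharTwo.neg_eq]
  -- `c.1 = c.2`
  have h3 : ∀ v, φ (φ v) = v := by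
    intro v
    have := congrArg (fun ψ : MulAut A => ψ v) h2
    exact this
  have hx : ∀ {g : A} {a : F}, PX S g a → PX S (φ g) ((c.1 : F) * (c.2 : F)⁻¹ * a) := by
    rintro g a ⟨p, b, q, rfl⟩
    have h4 := apply_nf S e a p.c b q.c
    rw [← eq_tt p, ← eq_tt q] at h4
    rw [h4]
    exact PX.conj ⟨_, _, _, rfl⟩ hu
  have hz : ∀ {g : A} {q : F}, PZ S g (tt q) → PZ S (φ g) (tt ((c.2 : F) * c.2 * q)) := by
    rintro g q ⟨a, p, b, rfl⟩
    have h4 := apply_nf S e a p.c b q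
    rw [← eq_tt p] at h4
    rw [h4]
    obtain ⟨r, hr⟩ := exists_PZ hu
    have h5 := PZ.conj (S := S) (g := B2Std.nf S.m ((c.1 : F) * (c.2 : F)⁻¹ * a)
          (tt ((c.1 : F) * c.1 * p.c)) ((c.1 : F) * c.2 * b) (tt ((c.2 : F) * c.2 * q)))
          (q := tt ((c.2 : F) * c.2 * q)) ⟨_, _, _, rfl⟩ hr
    have h6 : r * tt ((c.2 : F) * c.2 * q) * r⁻¹ = tt ((c.2 : F) * c.2 * q) := by
      rw [← comm_of_w (p := tt ((c.2 : F) * c.2 * q)) rfl r]; group
    rw [h6] at h5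
    exact h5
  have e1 : (c.1 : F) * (c.2 : F)⁻¹ = 1 := by
    apply key
    have h4 := hx (hx (PX.x (S := S) 1))
    rw [h3, mul_one] at h4
    exact h4.uniq (PX.x 1)
  have e2 : (c.2 : F) = 1 := by
    apply key
    apply key
    have h4 := hz (hz (PZ.z₂ (S := S) (tt 1)))
    rw [h3, mul_one] at h4
    exact tt_inj (h4.uniq (PZ.z₂ (tt 1)))
  have e3 : (c.1 : F) = 1 := by
    rw [e2, inv_one, mul_one] at e1
    exact e1
  have e4 : c = 1 := Prod.ext (Units.ext e3) (Units.ext e2)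
  rw [e, e4, map_one, map_one, mul_one, mul_one]

/-- Products of two commuting involutory automorphisms of types `≠ 1`. -/
theorem inner_of_mul (hF : 3 ≤ Nat.card F) {ψ : MulAut A} (hφU : ∀ v ∈ S.U, φ v ∈ S.U)
    (hφI : ∀ v ∈ S.VI, φ v ∈ S.VI) (hφJ : ∀ v ∈ S.VJ, φ v ∈ S.VJ)
    (hψU : ∀ v ∈ S.U, ψ v ∈ S.U) (hψI : ∀ v ∈ S.VI, ψ v ∈ S.VI) (hψJ : ∀ v ∈ S.VJ, ψ v ∈ S.VJ)
    (hφ2 : φ * φ = 1) (hψ2 : ψ * ψ = 1) (hc : φ * ψ = ψ * φ) {ρ τ : F ≃+* F}
    (h1 : Fac S φ ρ) (h2 : Fac S ψ τ) (hρ : ρ ≠ 1) (hτ : τ ≠ 1) :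
    ∃ u ∈ S.U, φ * ψ = MulAut.conj u := by
  have e1 : ρ * ρ = 1 := by
    have := h1.mul h1
    rw [hφ2] at this
    exact this.uniq Fac.one
  have e2 : τ * τ = 1 := by
    have := h2.mul h2
    rw [hψ2] at this
    exact this.uniq Fac.one
  have e3 : ρ = τ := OutField.unique_invol e1 e2 hρ hτ
  have hU : ∀ v ∈ S.U, (φ * ψ) v ∈ S.U := fun v hv => hφU _ (hψU v hv)
  have hI : ∀ v ∈ S.VI, (φ * ψ) v ∈ S.VI := fun v hv => hφI _ (hψI v hv)
  have hJ : ∀ v ∈ S.VJ, (φ * ψ) v ∈ S.VJ := fun v hv => hφJ _ (hψJ v hv)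
  obtain ⟨u, hu, c, σ, e⟩ := decomp (tySp hF) hU hI hJ
  have h3 := Fac.of_decomp hu hI e
  have h4 := h1.mul h2
  rw [← e3, e1] at h4
  have h5 := h3.uniq h4
  rw [h5] at e
  refine ⟨u, hu, inner_of_one S hu e ?_⟩
  calc φ * ψ * (φ * ψ) = φ * (ψ * φ) * ψ := by group
    _ = (φ * φ) * (ψ * ψ) := by rw [← hc]; group
    _ = 1 := by rw [hφ2, hψ2, one_mul]

end simple

end Cfsg.Agent.StdRank2.SpJe
end

-- part: StdSpFour/Env
section
prune_inst 0x7f01010052054000000000000000000000000000000002300000140000000080123a501270030000200091022200808000001000049422000000a000400400500000080000231000000000006000800000000000000000000000000000000000000000000000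
set_option linter.all false
open scoped Cfsg.Agent.FastGrp

-- part: StdSpFour/Mover
section
/-! From an element moving `t` inside `t Z_s` (normalising `V₁ L₁`) to an element of `N₄` moving `t`,
and then to one commuting with the torus `T_a`. -/
set_option autoImplicit false
set_option linter.unusedSectionVars false

namespace Cfsg.Agent.StdSpFour
namespace Base

variable {F G : Type*} [Field F] [CharP F 2] [Group G] (B : Base F G)

/-- A set of elements containing the generators of `L₁ = L_a`, centralising `t` and `T_(a+b)`, normalising `V₁`. -/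
structure LeviSet (L : Set G) : Prop where
  xa_mem : ∀ u, B.xa u ∈ L
  na_mem : B.na ∈ L
  h_mem : ∀ α : Fˣ, B.h α α⁻¹ ∈ L
  t_comm : ∀ l ∈ L, Commute B.t l
  h_comm : ∀ l ∈ L, ∀ β, Commute (B.h 1 β) l
  norm : ∀ l ∈ L, ∀ s m r, ∃ s' m' r', l⁻¹ * B.v1 s m r * l = B.v1 s' m' r'

/-- `n` normalises `Z_s`, `V₁` and `V₁ L₁` and moves `t` to `t z`, `1 ≠ z ∈ Z_s`. -/
structure Mover (L : Set G) (n : G) : Prop where
  tr : ∃ w, w ≠ 0 ∧ n * B.t * n⁻¹ = B.t * B.zs w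
  tr' : ∃ w, n⁻¹ * B.t * n = B.t * B.zs w
  zs : ∀ m, ∃ m', n⁻¹ * B.zs m * n = B.zs m'
  v : ∀ s m r, ∃ s' m' r', n * B.v1 s m r * n⁻¹ = B.v1 s' m' r'
  v' : ∀ s m r, ∃ s' m' r', n⁻¹ * B.v1 s m r * n = B.v1 s' m' r'
  l : ∀ l ∈ L, ∃ l' ∈ L, ∃ s m r, n * l * n⁻¹ = l' * B.v1 s m r

variable {B}

theorem h1_v1 (β : Fˣ) (s k r : F) : B.h 1 β * B.v1 s k r * (B.h 1 β)⁻¹ = B.v1 (β * s) (β * k) (β * r) := by
  rw [B.h_v1]
  simp

theorem h1_v1' (β : Fˣ) (s k r : F) : (B.h 1 β)⁻¹ * B.v1 s k r * B.h 1 β =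
    B.v1 ((β⁻¹ : Fˣ) * s) ((β⁻¹ : Fˣ) * k) ((β⁻¹ : Fˣ) * r) := by
  rw [B.h_inv, B.h_v1, mul_assoc, ← B.h_mul]
  simp [B.h_one]

theorem exists_unit_ne [Fintype F] (hF : 4 ≤ Fintype.card F) : ∃ β : Fˣ, β ≠ 1 := by
  obtain ⟨x, h0, h1⟩ := FieldAux.exists_ne hF
  exact ⟨Units.mk0 x h0, fun h => h1 (by simpa using congrArg Units.val h)⟩

/-- Step 1: an element of `N₄` moving `t`. -/
theorem exists_isN4 [Fintype F] (hF : 4 ≤ Fintype.card F) {L : Set G} (hL : B.LeviSet L) {n : G}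
    (hn : B.Mover L n) : ∃ m, B.IsN4 m ∧ ∃ w, w ≠ 0 ∧ m⁻¹ * B.t * m = B.t * B.zs w := by
  obtain ⟨β, hβ⟩ := exists_unit_ne hF
  set h := B.h 1 β with hh
  set g := n⁻¹ * h * n with hg
  have hVL : ∀ l ∈ L, ∃ s m r, g⁻¹ * l * g = l * B.v1 s m r := by
    intro l hl
    obtain ⟨l', hl', s, m, r, h1⟩ := hn.l l hl
    obtain ⟨s', m', r', h2⟩ := hn.v' (s + (β⁻¹ : Fˣ) * s) (m + (β⁻¹ : Fˣ) * m) (r + (β⁻¹ : Fˣ) * r)
    refine ⟨s', m', r', ?_⟩
    have h3 : h⁻¹ * (l' * B.v1 s m r) * h = l' * B.v1 s m r *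
        B.v1 (s + (β⁻¹ : Fˣ) * s) (m + (β⁻¹ : Fˣ) * m) (r + (β⁻¹ : Fˣ) * r) := by
      have h4 := (hL.h_comm l' hl' β).eq
      rw [← hh] at h4
      have h5 : h⁻¹ * l' = l' * h⁻¹ := by
        calc h⁻¹ * l' = h⁻¹ * (l' * h) * h⁻¹ := by group
          _ = l' * h⁻¹ := by rw [← h4]; group
      rw [mul_assoc l', B.v1_mul, ← add_assoc, ← add_assoc, ← add_assoc, CharTwo.add_self_eq_zero,
        CharTwo.add_self_eq_zero, CharTwo.add_self_eq_zero, zero_add, zero_add, zero_add, ← h1_v1', ← hh,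
        ← mul_assoc h⁻¹, h5]
      group
    calc g⁻¹ * l * g = n⁻¹ * (h⁻¹ * (n * l * n⁻¹) * h) * n := by rw [hg]; group
      _ = n⁻¹ * ((n * l * n⁻¹) *
        B.v1 (s + (β⁻¹ : Fˣ) * s) (m + (β⁻¹ : Fˣ) * m) (r + (β⁻¹ : Fˣ) * r)) * n := by rw [h1, h3]
      _ = l * (n⁻¹ * B.v1 (s + (β⁻¹ : Fˣ) * s) (m + (β⁻¹ : Fˣ) * m) (r + (β⁻¹ : Fˣ) * r) * n) := by group
      _ = _ := by rw [h2]
  have hVg : ∀ s m r, ∃ s' m' r', g⁻¹ * B.v1 s m r * g = B.v1 s' m' r' := by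
    intro s m r
    obtain ⟨s1, m1, r1, h1⟩ := hn.v s m r
    obtain ⟨s2, m2, r2, h2⟩ := hn.v' ((β⁻¹ : Fˣ) * s1) ((β⁻¹ : Fˣ) * m1) ((β⁻¹ : Fˣ) * r1)
    refine ⟨s2, m2, r2, ?_⟩
    rw [← h2, ← h1_v1', ← h1, hg, hh]
    group
  obtain ⟨μ, hμ⟩ := B.scalar hF g hVg (fun u => hVL _ (hL.xa_mem u)) (hVL _ hL.na_mem)
  have hμ0 : μ ≠ 0 := by
    rintro rfl
    have h1 := hμ 1 0 0
    rw [zero_mul, zero_mul, B.v1_zero] at h1
    have h2 : B.v1 1 0 0 = 1 := by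
      calc B.v1 1 0 0 = g * (g⁻¹ * B.v1 1 0 0 * g) * g⁻¹ := by group
        _ = 1 := by rw [h1]; group
    rw [← B.v1_zero] at h2
    exact one_ne_zero (B.v1_inj h2).1
  set k := B.h 1 (Units.mk0 μ hμ0) with hk
  -- translation of `g`
  obtain ⟨w, hw0, hw⟩ := hn.tr
  obtain ⟨w', hw'⟩ := hn.tr'
  obtain ⟨m1, hm1⟩ := hn.zs (w + (β⁻¹ : Fˣ) * w)
  have hzh : h⁻¹ * B.zs w * h = B.zs ((β⁻¹ : Fˣ) * w) := by
    rw [← v1_zs, ← v1_zs, hh, h1_v1', mul_zero]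
  have hth : h⁻¹ * B.t = B.t * h⁻¹ := by
    have := (B.t_h 1 β).inv_right.eq
    rw [hh, this]
  have hne : w + (β⁻¹ : Fˣ) * w ≠ 0 := by
    intro h1
    apply hβ
    have h2 : w = (β⁻¹ : Fˣ) * w := FieldAux.eq_of_add_eq_zero h1
    have h3 : ((β⁻¹ : Fˣ) : F) = 1 := by
      have h4 : (1 : F) * w = (β⁻¹ : Fˣ) * w := by rw [one_mul]; exact h2
      exact (mul_right_cancel₀ hw0 h4).symm
    have h4 : β⁻¹ = 1 := Units.ext h3
    exact inv_eq_one.1 h4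
  have htg : g⁻¹ * B.t * g = B.t * B.zs m1 := by
    have h1 : B.t = (n * B.t * n⁻¹) * B.zs w := by
      rw [hw, mul_assoc, B.zs_zs, mul_one]
    calc g⁻¹ * B.t * g = n⁻¹ * (h⁻¹ * (n * B.t * n⁻¹) * h) * n := by rw [hg]; group
      _ = n⁻¹ * ((h⁻¹ * B.t) * B.zs w * h) * n := by rw [hw]; group
      _ = n⁻¹ * (B.t * (h⁻¹ * B.zs w * h)) * n := by rw [hth]; group
      _ = n⁻¹ * ((n * B.t * n⁻¹) * (B.zs w * B.zs ((β⁻¹ : Fˣ) * w))) * n := by
          rw [hzh, ← mul_assoc (n * B.t * n⁻¹), ← h1]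
      _ = B.t * (n⁻¹ * B.zs (w + (β⁻¹ : Fˣ) * w) * n) := by rw [B.zs_add]; group
      _ = _ := by rw [hm1]
  have hm10 : m1 ≠ 0 := by
    rintro rfl
    rw [B.zs_zero] at hm1
    have h2 : B.zs (w + (β⁻¹ : Fˣ) * w) = 1 := by
      calc B.zs (w + (β⁻¹ : Fˣ) * w) = n * (n⁻¹ * B.zs (w + (β⁻¹ : Fˣ) * w) * n) * n⁻¹ := by group
        _ = 1 := by rw [hm1]; group
    rw [← v1_zs, ← B.v1_zero] at h2
    exact hne (B.v1_inj h2).2.1
  -- the element `m = g k`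
  have hkv : ∀ s m r, k⁻¹ * B.v1 s m r * k = B.v1 (μ⁻¹ * s) (μ⁻¹ * m) (μ⁻¹ * r) := by
    intro s m r
    rw [hk, h1_v1']
    simp
  have hgk : ∀ s m r, (g * k)⁻¹ * B.v1 s m r * (g * k) = B.v1 s m r := by
    intro s m r
    calc (g * k)⁻¹ * B.v1 s m r * (g * k) = k⁻¹ * (g⁻¹ * B.v1 s m r * g) * k := by group
      _ = B.v1 s m r := by
        rw [hμ, hkv, inv_mul_cancel_left₀ hμ0, inv_mul_cancel_left₀ hμ0, inv_mul_cancel_left₀ hμ0]
  have hLk : ∀ l ∈ L, ∃ s m r, (g * k)⁻¹ * l * (g * k) = l * B.v1 s m r := by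
    intro l hl
    obtain ⟨s, m, r, h1⟩ := hVL l hl
    refine ⟨μ⁻¹ * s, μ⁻¹ * m, μ⁻¹ * r, ?_⟩
    have h4 := (hL.h_comm l hl (Units.mk0 μ hμ0)).eq
    rw [← hk] at h4
    have h5 : k⁻¹ * l = l * k⁻¹ := by
      calc k⁻¹ * l = k⁻¹ * (l * k) * k⁻¹ := by group
        _ = l * k⁻¹ := by rw [← h4]; group
    calc (g * k)⁻¹ * l * (g * k) = k⁻¹ * (g⁻¹ * l * g) * k := by group
      _ = (k⁻¹ * l) * B.v1 s m r * k := by rw [h1]; group
      _ = l * (k⁻¹ * B.v1 s m r * k) := by rw [h5]; group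
      _ = _ := by rw [hkv]
  have htk : k⁻¹ * B.t = B.t * k⁻¹ := by
    have := (B.t_h 1 (Units.mk0 μ hμ0)).inv_right.eq
    rw [hk, this]
  have htr : (g * k)⁻¹ * B.t * (g * k) = B.t * B.zs (μ⁻¹ * m1) := by
    calc (g * k)⁻¹ * B.t * (g * k) = k⁻¹ * (g⁻¹ * B.t * g) * k := by group
      _ = (k⁻¹ * B.t) * B.zs m1 * k := by rw [htg]; group
      _ = B.t * (k⁻¹ * B.zs m1 * k) := by rw [htk]; group
      _ = _ := by rw [← v1_zs, hkv, mul_zero, v1_zs]
  refine ⟨g * k, ⟨?_, fun u => hLk _ (hL.xa_mem u), fun α => hLk _ (hL.h_mem α), ⟨_, htr⟩⟩, _, ?_, htr⟩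
  · intro s m r
    have h1 := hgk s m r
    show g * k * B.v1 s m r = B.v1 s m r * (g * k)
    calc g * k * B.v1 s m r = g * k * ((g * k)⁻¹ * B.v1 s m r * (g * k)) := by rw [h1]
      _ = _ := by group
  · exact mul_ne_zero (inv_ne_zero hμ0) hm10

/-- torus `T_a` on `V₁` -/
theorem ha_v1 (α : Fˣ) (s m r : F) : B.v1 s m r * B.h α α⁻¹ =
    B.h α α⁻¹ * B.v1 (α * s) m (((α⁻¹ : Fˣ) : F) * r) := by
  rw [B.h_v1]
  congr 2
  · rw [← mul_assoc, Units.inv_mul, one_mul]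
  · rw [Units.mul_inv, one_mul]
  · rw [Units.val_inv_eq_inv_val]
    field_simp

/-- Step 2: an element of `N₄` moving `t` and commuting with `T_a`. -/
theorem exists_isN4_comm [Fintype F] (hF : 4 ≤ Fintype.card F) {m : G} (hm : B.IsN4 m) {w : F}
    (hw : m⁻¹ * B.t * m = B.t * B.zs w) :
    ∃ y, B.IsN4 y ∧ y⁻¹ * B.t * y = B.t * B.zs w ∧ ∀ α : Fˣ, Commute y (B.h α α⁻¹) := by
  classical
  obtain ⟨ζ, hζ⟩ := IsCyclic.exists_generator (α := Fˣ)
  have hζ1 : (ζ : F) ≠ 1 := by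
    intro h1
    obtain ⟨β, hβ⟩ := exists_unit_ne hF
    obtain ⟨k, hk⟩ := Subgroup.mem_zpowers_iff.1 (hζ β)
    have h2 : ζ = 1 := Units.ext h1
    rw [h2, one_zpow] at hk
    exact hβ hk.symm
  set h := B.h ζ ζ⁻¹ with hh
  obtain ⟨s, k, r, h1⟩ := hm.tor ζ
  rw [← hh] at h1
  -- powers
  have hpow : ∀ n : ℕ, ∃ a b, (h * B.v1 s k r) ^ n = h ^ n * B.v1 a (n * k) b := by
    intro n
    induction n with
    | zero => exact ⟨0, 0, by simp [B.v1_zero]⟩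
    | succ n ih =>
      obtain ⟨a, b, hab⟩ := ih
      refine ⟨ζ * a + s, ((ζ⁻¹ : Fˣ) : F) * b + r, ?_⟩
      rw [pow_succ, hab, pow_succ]
      calc h ^ n * B.v1 a (n * k) b * (h * B.v1 s k r) = h ^ n * (B.v1 a (n * k) b * h) * B.v1 s k r := by group
        _ = h ^ n * (h * B.v1 (ζ * a) (n * k) (((ζ⁻¹ : Fˣ) : F) * b)) * B.v1 s k r := by rw [hh, ha_v1]
        _ = h ^ n * h * (B.v1 (ζ * a) (n * k) (((ζ⁻¹ : Fˣ) : F) * b) * B.v1 s k r) := by group
        _ = _ := by rw [B.v1_mul]; congr 2; push_cast; ring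
  have hhn : ∀ n : ℕ, h ^ n = B.h (ζ ^ n) (ζ⁻¹ ^ n) := by
    intro n
    induction n with
    | zero => simp [B.h_one]
    | succ n ih => rw [pow_succ, ih, hh, ← B.h_mul, pow_succ, pow_succ]
  have hk0 : k = 0 := by
    obtain ⟨a, b, hab⟩ := hpow (Fintype.card Fˣ)
    have e1 : h ^ Fintype.card Fˣ = 1 := by
      rw [hhn, inv_pow, pow_card_eq_one, inv_one, B.h_one]
    have e2 : (h * B.v1 s k r) ^ Fintype.card Fˣ = 1 := by
      rw [← h1]
      have : (m⁻¹ * h * m) ^ Fintype.card Fˣ = m⁻¹ * h ^ Fintype.card Fˣ * m := by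
        have := conj_pow (i := Fintype.card Fˣ) (a := m⁻¹) (b := h)
        rw [inv_inv] at this
        exact this
      rw [this, e1]; group
    rw [e2, e1, one_mul, ← B.v1_zero] at hab
    have h3 := (B.v1_inj hab).2.1
    have hcard : ((Fintype.card Fˣ : ℕ) : F) = 1 := by
      have h4 : Fintype.card Fˣ = Fintype.card F - 1 := Fintype.card_units F
      have h5 : (Fintype.card F : F) = 0 := FiniteField.cast_card_eq_zero F
      have h6 : Fintype.card Fˣ + 1 = Fintype.card F := by omega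
      have h7 : ((Fintype.card Fˣ : ℕ) : F) + 1 = 0 := by
        rw [← h5, ← h6]; push_cast; rfl
      exact FieldAux.eq_of_add_eq_zero h7
    rw [hcard, one_mul] at h3
    exact h3.symm
  subst hk0
  have hz1 : (1 : F) + ζ ≠ 0 := fun h3 => hζ1 (FieldAux.eq_of_add_eq_zero h3).symm
  have hz2 : (1 : F) + ((ζ⁻¹ : Fˣ) : F) ≠ 0 := by
    intro h3
    have h4 := FieldAux.eq_of_add_eq_zero h3
    apply hζ1
    rw [Units.val_inv_eq_inv_val] at h4
    rw [← inv_inv (ζ : F), ← h4, inv_one]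
  set s' := (1 + (ζ : F))⁻¹ * s with hs'
  set r' := (1 + ((ζ⁻¹ : Fˣ) : F))⁻¹ * r with hr'
  have es : s = s' + ζ * s' := by
    rw [hs']
    field_simp
  have er : r = r' + ((ζ⁻¹ : Fˣ) : F) * r' := by
    rw [hr', show (1 + ((ζ⁻¹ : Fˣ) : F))⁻¹ * r + ((ζ⁻¹ : Fˣ) : F) * ((1 + ((ζ⁻¹ : Fˣ) : F))⁻¹ * r) =
      ((1 + ((ζ⁻¹ : Fˣ) : F)) * (1 + ((ζ⁻¹ : Fˣ) : F))⁻¹) * r by ring, mul_inv_cancel₀ hz2, one_mul]
  have hy : Commute (m * B.v1 s' 0 r') h := by
    have h5 : h * m = m * (h * B.v1 s 0 r) := by rw [← h1]; group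
    show m * B.v1 s' 0 r' * h = h * (m * B.v1 s' 0 r')
    calc m * B.v1 s' 0 r' * h = m * (B.v1 s' 0 r' * h) := by group
      _ = m * (h * B.v1 (ζ * s') 0 (((ζ⁻¹ : Fˣ) : F) * r')) := by rw [hh, ha_v1]
      _ = m * (h * (B.v1 s 0 r * B.v1 s' 0 r')) := by
          rw [B.v1_mul]
          congr 3
          · rw [es, add_comm s', add_assoc, CharTwo.add_self_eq_zero, add_zero]
          · rw [add_zero]
          · rw [er, add_comm r', add_assoc, CharTwo.add_self_eq_zero, add_zero]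
      _ = h * m * B.v1 s' 0 r' := by rw [h5]; group
      _ = _ := by group
  refine ⟨m * B.v1 s' 0 r', hm.mul (IsN4.of_v1 _ _ _), ?_, ?_⟩
  · calc (m * B.v1 s' 0 r')⁻¹ * B.t * (m * B.v1 s' 0 r')
        = (B.v1 s' 0 r')⁻¹ * (m⁻¹ * B.t * m) * B.v1 s' 0 r' := by group
      _ = B.t * B.zs w := by
        rw [hw, ← v1_zs]
        have h6 : Commute (B.v1 s' 0 r') (B.t * B.v1 0 w 0) :=
          (B.t_v1 _ _ _).symm.mul_right (B.v1_comm _ _ _ _ _ _)
        calc (B.v1 s' 0 r')⁻¹ * (B.t * B.v1 0 w 0) * B.v1 s' 0 r'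
            = (B.v1 s' 0 r')⁻¹ * ((B.t * B.v1 0 w 0) * B.v1 s' 0 r') := by group
          _ = _ := by rw [← h6.eq]; group
  · intro α
    obtain ⟨k, hk⟩ := Subgroup.mem_zpowers_iff.1 (hζ α)
    have h7 : B.h α α⁻¹ = h ^ k := by
      let φ : Fˣ →* G := MonoidHom.mk' (fun x => B.h x x⁻¹) (fun x y => by
        rw [mul_inv, B.h_mul])
      have h8 : φ α = φ ζ ^ k := by rw [← map_zpow, hk]
      exact h8
    rw [h7]
    exact hy.zpow_right k

end Base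
end Cfsg.Agent.StdSpFour
end

-- part: StdSpFour/Fusion
section
/-!
The fusion lemma: if `t` is conjugate to `t z` with `1 ≠ z ∈ Z_s`, then some element normalising
`P₁ = C_A(Z_s)^∞ = V₁L₁`, `Z_s = Z(P₁)` and `V₁ = O₂(P₁)` moves `t` inside `t Z_s`: a `Mover`.
-/
set_option autoImplicit false
set_option linter.unusedSectionVars false

open Subgroup Pointwise

namespace Cfsg.Agent.StdSpFour

variable {F G : Type*} [Field F] [CharP F 2] [Group G]

/-- The facts on the parabolic residuals used in the fusion lemma. `P1` belongs to `Z_s`, `P2` to `Z_l`. -/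
structure PFacts (B : Base F G) (P1 P2 A : Subgroup G) : Prop where
  perf1 : ⁅P1, P1⁆ = P1
  t1 : ∀ x ∈ P1, Commute x B.t
  z1 : ∀ x ∈ P1, ∀ w, Commute x (B.zs w)
  max1 : ∀ w, w ≠ 0 → ∀ Q : Subgroup G, ⁅Q, Q⁆ = Q → (∀ x ∈ Q, Commute x B.t) →
    (∀ x ∈ Q, Commute x (B.zs w)) → Q ≤ P1
  max2 : ∀ w, w ≠ 0 → ∀ Q : Subgroup G, ⁅Q, Q⁆ = Q → (∀ x ∈ Q, Commute x B.t) →
    (∀ x ∈ Q, Commute x (B.zl w)) → Q ≤ P2
  mixed : ∀ w w', w ≠ 0 → w' ≠ 0 → ∀ Q : Subgroup G, ⁅Q, Q⁆ = Q → (∀ x ∈ Q, Commute x B.t) →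
    (∀ x ∈ Q, Commute x (B.zs w * B.zl w')) → Q ≤ ⊥
  maxA : ∀ Q : Subgroup G, ⁅Q, Q⁆ = Q → (∀ x ∈ Q, Commute x B.t) → Q ≤ A
  tA : ∀ x ∈ A, Commute x B.t
  inv : ∀ x ∈ A, x * x = 1 → x ≠ 1 → ∃ a ∈ A, ∃ w w', (w ≠ 0 ∨ w' ≠ 0) ∧ a⁻¹ * x * a = B.zs w * B.zl w'
  perf2 : ⁅P2, P2⁆ = P2
  t2 : ∀ x ∈ P2, Commute x B.t
  zs_mem : ∀ w, B.zs w ∈ P1
  center1 : ∀ x ∈ P1, (∀ y ∈ P1, Commute x y) → ∃ m, x = B.zs m
  center2 : ∀ w, ∀ x ∈ P2, Commute x (B.zl w)
  zl_mem : ∀ w, B.zl w ∈ P2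
  v_mem : ∀ s m r, B.v1 s m r ∈ P1
  v_norm : ∀ x ∈ P1, ∀ s m r, ∃ s' m' r', x⁻¹ * B.v1 s m r * x = B.v1 s' m' r'
  o2 : ∀ W : Subgroup G, W ≤ P1 → (∀ x ∈ P1, ∀ y ∈ W, x⁻¹ * y * x ∈ W) → (∀ y ∈ W, ∃ k : ℕ, y ^ 2 ^ k = 1) →
    ∀ y ∈ W, ∃ s m r, y = B.v1 s m r
  h2 : ∀ (α β : Fˣ), ∀ x ∈ P2, B.h α β * x * (B.h α β)⁻¹ ∈ P2
  split : ∀ x ∈ P1, ∃ l ∈ closure ({B.na} ∪ Set.range B.xa : Set G), ∃ s m r, x = l * B.v1 s m r
  l1 : closure ({B.na} ∪ Set.range B.xa : Set G) ≤ P1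
  tor : ∀ α : Fˣ, B.h α α⁻¹ ∈ closure ({B.na} ∪ Set.range B.xa : Set G)

namespace PFacts

variable {B : Base F G} {P1 P2 A : Subgroup G}

theorem conj_mem_iff {g x : G} {P : Subgroup G} : x ∈ MulAut.conj g • P ↔ g⁻¹ * x * g ∈ P := by
  rw [Subgroup.mem_pointwise_smul_iff_inv_smul_mem]
  simp [MulAut.smul_def]

theorem perf_conj {g : G} {P : Subgroup G} (h : ⁅P, P⁆ = P) :
    ⁅MulAut.conj g • P, MulAut.conj g • P⁆ = MulAut.conj g • P := by
  have h1 := Subgroup.map_commutator P P (MulAut.conj g).toMonoidHom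
  rw [h] at h1
  exact h1.symm

theorem eq_of_conj_le' [Finite G] {g : G} {P Q : Subgroup G} (h : ∀ x ∈ P, g⁻¹ * x * g ∈ Q)
    (h' : ∀ x ∈ Q, g * x * g⁻¹ ∈ P) : ∀ x, g⁻¹ * x * g ∈ Q ↔ x ∈ P := by
  intro x
  refine ⟨fun hx => ?_, h x⟩
  have := h' _ hx
  rwa [show g * (g⁻¹ * x * g) * g⁻¹ = x by group] at this

theorem eq_of_conj_le [Finite G] {g : G} {P Q : Subgroup G} (hc : Nat.card P = Nat.card Q)
    (h : ∀ x ∈ P, g⁻¹ * x * g ∈ Q) : ∀ x, g⁻¹ * x * g ∈ Q ↔ x ∈ P := by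
  have h1 : P ≤ MulAut.conj g • Q := fun x hx => conj_mem_iff.2 (h x hx)
  have h2 : P = MulAut.conj g • Q := by
    apply Subgroup.eq_of_le_of_card_ge h1
    rw [hc]
    exact (Nat.card_congr (Subgroup.equivSMul (MulAut.conj g) Q).toEquiv).symm.le
  intro x
  rw [← conj_mem_iff, ← h2]

/-- `n` normalises `P1`: then it is a mover as soon as it moves `t` inside `t Z_s`. -/
theorem mover_of_norm [Finite G] (hP : PFacts B P1 P2 A) {n : G} (hn : ∀ x, n⁻¹ * x * n ∈ P1 ↔ x ∈ P1)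
    {w : F} (hw : w ≠ 0) (ht : n * B.t * n⁻¹ = B.t * B.zs w) :
    B.Mover (closure ({B.na} ∪ Set.range B.xa : Set G) : Set G) n := by
  have hn' : ∀ x, n * x * n⁻¹ ∈ P1 ↔ x ∈ P1 := by
    intro x
    rw [← hn (n * x * n⁻¹)]
    rw [show n⁻¹ * (n * x * n⁻¹) * n = x by group]
  have hcomm : ∀ {x y : G}, Commute x y → Commute (n⁻¹ * x * n) (n⁻¹ * y * n) := by
    intro x y h
    show n⁻¹ * x * n * (n⁻¹ * y * n) = n⁻¹ * y * n * (n⁻¹ * x * n)
    calc n⁻¹ * x * n * (n⁻¹ * y * n) = n⁻¹ * (x * y) * n := by group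
      _ = _ := by rw [h.eq]; group
  have hzs : ∀ m, ∃ m', n⁻¹ * B.zs m * n = B.zs m' := by
    intro m
    refine hP.center1 _ ((hn _).2 (hP.zs_mem m)) ?_
    intro y hy
    have h1 : y = n⁻¹ * (n * y * n⁻¹) * n := by group
    rw [h1]
    exact hcomm (hP.z1 _ ((hn' y).2 hy) m).symm
  have hv' : ∀ s m r, ∃ s' m' r', n⁻¹ * B.v1 s m r * n = B.v1 s' m' r' := by
    intro s m r
    -- the conjugate of `V₁`
    let V : Subgroup G :=
      { carrier := {x | ∃ s m r, x = n⁻¹ * B.v1 s m r * n}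
        mul_mem' := by
          rintro _ _ ⟨s, m, r, rfl⟩ ⟨s', m', r', rfl⟩
          exact ⟨s + s', m + m', r + r', by rw [← B.v1_mul]; group⟩
        one_mem' := ⟨0, 0, 0, by rw [B.v1_zero]; group⟩
        inv_mem' := by
          rintro _ ⟨s, m, r, rfl⟩
          refine ⟨s, m, r, ?_⟩
          nth_rw 2 [← B.v1_inv]
          group }
    refine hP.o2 V ?_ ?_ ?_ _ ⟨s, m, r, rfl⟩
    · rintro _ ⟨s, m, r, rfl⟩
      exact (hn _).2 (hP.v_mem s m r)
    · rintro x hx _ ⟨s, m, r, rfl⟩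
      obtain ⟨s', m', r', h⟩ := hP.v_norm (n * x * n⁻¹) ((hn' x).2 hx) s m r
      refine ⟨s', m', r', ?_⟩
      rw [← h]; group
    · rintro _ ⟨s, m, r, rfl⟩
      refine ⟨1, ?_⟩
      rw [pow_one, sq]
      calc n⁻¹ * B.v1 s m r * n * (n⁻¹ * B.v1 s m r * n) = n⁻¹ * (B.v1 s m r * B.v1 s m r) * n := by group
        _ = 1 := by rw [B.v1_v1]; group
  have hv : ∀ s m r, ∃ s' m' r', n * B.v1 s m r * n⁻¹ = B.v1 s' m' r' := by
    intro s m r
    let V : Subgroup G :=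
      { carrier := {x | ∃ s m r, x = n * B.v1 s m r * n⁻¹}
        mul_mem' := by
          rintro _ _ ⟨s, m, r, rfl⟩ ⟨s', m', r', rfl⟩
          exact ⟨s + s', m + m', r + r', by rw [← B.v1_mul]; group⟩
        one_mem' := ⟨0, 0, 0, by rw [B.v1_zero]; group⟩
        inv_mem' := by
          rintro _ ⟨s, m, r, rfl⟩
          refine ⟨s, m, r, ?_⟩
          nth_rw 2 [← B.v1_inv]
          group }
    refine hP.o2 V ?_ ?_ ?_ _ ⟨s, m, r, rfl⟩
    · rintro _ ⟨s, m, r, rfl⟩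
      exact (hn' _).2 (hP.v_mem s m r)
    · rintro x hx _ ⟨s, m, r, rfl⟩
      obtain ⟨s', m', r', h⟩ := hP.v_norm (n⁻¹ * x * n) ((hn x).2 hx) s m r
      refine ⟨s', m', r', ?_⟩
      rw [← h]; group
    · rintro _ ⟨s, m, r, rfl⟩
      refine ⟨1, ?_⟩
      rw [pow_one, sq]
      calc n * B.v1 s m r * n⁻¹ * (n * B.v1 s m r * n⁻¹) = n * (B.v1 s m r * B.v1 s m r) * n⁻¹ := by group
        _ = 1 := by rw [B.v1_v1]; group
  refine ⟨⟨w, hw, ht⟩, ?_, hzs, hv, hv', ?_⟩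
  · obtain ⟨m', hm'⟩ := hzs w
    refine ⟨m', ?_⟩
    have h1 : B.t = n * B.t * n⁻¹ * B.zs w := by rw [ht, mul_assoc, B.zs_zs, mul_one]
    calc n⁻¹ * B.t * n = n⁻¹ * (n * B.t * n⁻¹ * B.zs w) * n := by rw [← h1]
      _ = B.t * (n⁻¹ * B.zs w * n) := by group
      _ = _ := by rw [hm']
  · intro l hl
    obtain ⟨l', hl', s, m, r, h⟩ := hP.split _ ((hn' l).2 (hP.l1 hl))
    exact ⟨l', hl', s, m, r, h⟩

/-- **Fusion lemma.** -/
theorem exists_mover [Finite G] [Fintype F] (hF : 4 ≤ Fintype.card F) (hP : PFacts B P1 P2 A) {g : G} {w : F}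
    (hw : w ≠ 0) (hg : g * B.t * g⁻¹ = B.t * B.zs w) :
    ∃ n, B.Mover (closure ({B.na} ∪ Set.range B.xa : Set G) : Set G) n := by
  have hzinj : ∀ {k : F}, B.zs k = 1 → k = 0 := by
    intro k h
    rw [← Base.v1_zs, ← B.v1_zero] at h
    exact (B.v1_inj h).2.1
  -- conjugates of perfect subgroups of `C(t z)`
  have hct : ∀ {g : G}, g * B.t * g⁻¹ = B.t * B.zs w → ∀ x ∈ P1, Commute (g⁻¹ * x * g) B.t := by
    intro g hg x hx
    have h1 : Commute x (B.t * B.zs w) := (hP.t1 x hx).mul_right (hP.z1 x hx w)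
    rw [← hg] at h1
    show g⁻¹ * x * g * B.t = B.t * (g⁻¹ * x * g)
    calc g⁻¹ * x * g * B.t = g⁻¹ * (x * (g * B.t * g⁻¹)) * g := by group
      _ = _ := by rw [h1.eq]; group
  have hperf : ∀ g : G, ⁅MulAut.conj g⁻¹ • P1, MulAut.conj g⁻¹ • P1⁆ = MulAut.conj g⁻¹ • P1 :=
    fun g => perf_conj hP.perf1
  have hmem : ∀ {g x : G}, x ∈ MulAut.conj g⁻¹ • P1 ↔ g * x * g⁻¹ ∈ P1 := by
    intro g x
    rw [conj_mem_iff, inv_inv]
  have hQt : ∀ {g : G}, g * B.t * g⁻¹ = B.t * B.zs w → ∀ x ∈ MulAut.conj g⁻¹ • P1, Commute x B.t := by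
    intro g hg x hx
    have h1 := hct hg _ (hmem.1 hx)
    rwa [show g⁻¹ * (g * x * g⁻¹) * g = x by group] at h1
  have hzA : g⁻¹ * B.zs w * g ∈ A := by
    apply hP.maxA (MulAut.conj g⁻¹ • P1) (hperf g) (hQt hg)
    rw [hmem, show g * (g⁻¹ * B.zs w * g) * g⁻¹ = B.zs w by group]
    exact hP.zs_mem w
  have hsq : g⁻¹ * B.zs w * g * (g⁻¹ * B.zs w * g) = 1 := by
    calc g⁻¹ * B.zs w * g * (g⁻¹ * B.zs w * g) = g⁻¹ * (B.zs w * B.zs w) * g := by group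
      _ = 1 := by rw [B.zs_zs]; group
  have hne : g⁻¹ * B.zs w * g ≠ 1 := by
    intro h
    apply hw
    apply hzinj
    calc B.zs w = g * (g⁻¹ * B.zs w * g) * g⁻¹ := by group
      _ = 1 := by rw [h]; group
  obtain ⟨a, haA, w1, w2, h12, ha⟩ := hP.inv _ hzA hsq hne
  -- replace `g` by `g a`
  set k := g * a with hk
  have hkt : k * B.t * k⁻¹ = B.t * B.zs w := by
    rw [← hg, hk]
    calc g * a * B.t * (g * a)⁻¹ = g * (a * B.t) * a⁻¹ * g⁻¹ := by group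
      _ = _ := by rw [(hP.tA a haA).eq]; group
  have hkz : k⁻¹ * B.zs w * k = B.zs w1 * B.zl w2 := by
    rw [← ha, hk]; group
  have hQz : ∀ x ∈ MulAut.conj k⁻¹ • P1, Commute x (B.zs w1 * B.zl w2) := by
    intro x hx
    have h1 := (hP.z1 _ (hmem.1 hx) w).eq
    rw [← hkz]
    show x * (k⁻¹ * B.zs w * k) = k⁻¹ * B.zs w * k * x
    calc x * (k⁻¹ * B.zs w * k) = k⁻¹ * (k * x * k⁻¹ * B.zs w) * k := by group
      _ = _ := by rw [h1]; group
  by_cases h1 : w1 = 0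
  · have h2 : w2 ≠ 0 := by
      rcases h12 with h | h
      · exact absurd h1 h
      · exact h
    rw [h1, B.zs_zero, one_mul] at hQz hkz
    have hle := hP.max2 w2 h2 _ (hperf k) (hQt hkt) hQz
    have hiff := eq_of_conj_le' (g := k) (P := P1) (Q := P2) (fun x hx => hle (by
      rw [hmem, show k * (k⁻¹ * x * k) * k⁻¹ = x by group]; exact hx)) (by
      have h3 : MulAut.conj k • P2 ≤ P1 := by
        apply hP.max1 w hw _ (perf_conj hP.perf2)
        · intro x hx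
          rw [conj_mem_iff] at hx
          have h4 : Commute (k⁻¹ * x * k) (B.t * B.zl w2) := (hP.t2 _ hx).mul_right (hP.center2 w2 _ hx)
          have h5 : B.t = k * (B.t * B.zl w2) * k⁻¹ := by
            calc B.t = B.t * B.zs w * B.zs w := by rw [mul_assoc, B.zs_zs, mul_one]
              _ = k * B.t * k⁻¹ * (k * (k⁻¹ * B.zs w * k) * k⁻¹) := by rw [hkt]; group
              _ = k * (B.t * B.zl w2) * k⁻¹ := by rw [hkz]; group
          show x * B.t = B.t * x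
          rw [h5]
          calc x * (k * (B.t * B.zl w2) * k⁻¹) = k * (k⁻¹ * x * k * (B.t * B.zl w2)) * k⁻¹ := by group
            _ = _ := by rw [h4.eq]; group
        · intro x hx
          rw [conj_mem_iff] at hx
          have h4 : Commute (k⁻¹ * x * k) (B.zl w2) := hP.center2 w2 _ hx
          have h5 : B.zs w = k * B.zl w2 * k⁻¹ := by rw [← hkz]; group
          show x * B.zs w = B.zs w * x
          rw [h5]
          calc x * (k * B.zl w2 * k⁻¹) = k * (k⁻¹ * x * k * B.zl w2) * k⁻¹ := by group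
            _ = _ := by rw [h4.eq]; group
      intro x hx
      apply h3
      rw [conj_mem_iff, show k⁻¹ * (k * x * k⁻¹) * k = x by group]
      exact hx)
    obtain ⟨β, hβ⟩ := Base.exists_unit_ne hF
    -- `n = k h k⁻¹`
    set h := B.h 1 β with hh
    have hnorm : ∀ x, (k * h * k⁻¹)⁻¹ * x * (k * h * k⁻¹) ∈ P1 ↔ x ∈ P1 := by
      have hone : ∀ (γ : Fˣ) x, x ∈ P1 → (k * B.h 1 γ * k⁻¹) * x * (k * B.h 1 γ * k⁻¹)⁻¹ ∈ P1 := by
        intro γ x hx
        rw [← hiff] at hx ⊢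
        have := hP.h2 1 γ _ hx
        rw [show k⁻¹ * (k * B.h 1 γ * k⁻¹ * x * (k * B.h 1 γ * k⁻¹)⁻¹) * k =
          B.h 1 γ * (k⁻¹ * x * k) * (B.h 1 γ)⁻¹ by group]
        exact this
      intro x
      constructor
      · intro hx
        have := hone β _ hx
        rw [← hh] at this
        rwa [show k * h * k⁻¹ * ((k * h * k⁻¹)⁻¹ * x * (k * h * k⁻¹)) * (k * h * k⁻¹)⁻¹ = x by group] at this
      · intro hx
        have := hone β⁻¹ x hx
        have e : B.h 1 β⁻¹ = h⁻¹ := by rw [hh, B.h_inv, inv_one]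
        rw [e] at this
        rwa [show k * h⁻¹ * k⁻¹ * x * (k * h⁻¹ * k⁻¹)⁻¹ = (k * h * k⁻¹)⁻¹ * x * (k * h * k⁻¹) by group] at this
    -- image of `z`
    have hz1 : (k * h * k⁻¹) * B.zs w * (k * h * k⁻¹)⁻¹ = k * B.zl (β * w2) * k⁻¹ := by
      have : h * B.zl w2 * h⁻¹ = B.zl (β * w2) := by rw [hh, B.h_zl]; simp
      rw [← this, ← hkz]; group
    obtain ⟨w3, hw3⟩ : ∃ m, k * B.zl (β * w2) * k⁻¹ = B.zs m := by
      refine hP.center1 _ ?_ ?_
      · rw [← hiff, show k⁻¹ * (k * B.zl (β * w2) * k⁻¹) * k = B.zl (β * w2) by group]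
        exact hP.zl_mem _
      · intro y hy
        have h3 := (hP.center2 (β * w2) _ ((hiff y).2 hy)).eq
        show k * B.zl (β * w2) * k⁻¹ * y = y * (k * B.zl (β * w2) * k⁻¹)
        calc k * B.zl (β * w2) * k⁻¹ * y = k * (B.zl (β * w2) * (k⁻¹ * y * k)) * k⁻¹ := by group
          _ = _ := by rw [← h3]; group
    have hw3' : w + w3 ≠ 0 := by
      intro h4
      have h5 : w = w3 := FieldAux.eq_of_add_eq_zero h4
      have h6 : B.zl (β * w2) = B.zl w2 := by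
        calc B.zl (β * w2) = k⁻¹ * (k * B.zl (β * w2) * k⁻¹) * k := by group
          _ = k⁻¹ * B.zs w * k := by rw [hw3, h5]
          _ = B.zl w2 := hkz
      rw [← Base.v1_zl, ← Base.v1_zl] at h6
      have h7 := (B.v1_inj h6).2.2
      exact hβ (Units.ext (mul_right_cancel₀ h2 (by rw [h7, Units.val_one, one_mul])))
    refine ⟨k * h * k⁻¹, hP.mover_of_norm hnorm hw3' ?_⟩
    have e1 : (k * h * k⁻¹) * (B.t * B.zs w) * (k * h * k⁻¹)⁻¹ = B.t * B.zs w := by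
      have : h * B.t = B.t * h := (B.t_h 1 β).symm.eq
      rw [← hkt]
      calc k * h * k⁻¹ * (k * B.t * k⁻¹) * (k * h * k⁻¹)⁻¹ = k * (h * B.t) * h⁻¹ * k⁻¹ := by group
        _ = _ := by rw [this]; group
    have e2 : B.t = B.t * B.zs w * B.zs w := by rw [mul_assoc, B.zs_zs, mul_one]
    calc k * h * k⁻¹ * B.t * (k * h * k⁻¹)⁻¹
        = k * h * k⁻¹ * (B.t * B.zs w * B.zs w) * (k * h * k⁻¹)⁻¹ := by rw [← e2]
      _ = (k * h * k⁻¹ * (B.t * B.zs w) * (k * h * k⁻¹)⁻¹) *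
          (k * h * k⁻¹ * B.zs w * (k * h * k⁻¹)⁻¹) := by group
      _ = B.t * B.zs w * B.zs w3 := by rw [e1, hz1, hw3]
      _ = _ := by rw [B.zs_add, mul_assoc]
  · by_cases h2 : w2 = 0
    · rw [h2, B.zl_zero, mul_one] at hQz hkz
      have hle := hP.max1 w1 h1 _ (hperf k) (hQt hkt) hQz
      have hiff := eq_of_conj_le (g := k) (P := P1) (Q := P1) rfl (fun x hx => hle (by
        rw [hmem, show k * (k⁻¹ * x * k) * k⁻¹ = x by group]; exact hx))
      exact ⟨k, hP.mover_of_norm hiff hw hkt⟩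
    · exfalso
      have hle := hP.mixed w1 w2 h1 h2 _ (hperf k) (hQt hkt) hQz
      have h3 : k⁻¹ * B.zs w * k ∈ (⊥ : Subgroup G) := hle (by
        rw [hmem, show k * (k⁻¹ * B.zs w * k) * k⁻¹ = B.zs w by group]; exact hP.zs_mem w)
      rw [mem_bot] at h3
      apply hw
      apply hzinj
      calc B.zs w = k * (k⁻¹ * B.zs w * k) * k⁻¹ := by group
        _ = 1 := by rw [h3]; group

end PFacts
end Cfsg.Agent.StdSpFour
end

-- part: StdSpFour/Env
section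
/-!
`Env B A`: the facts on `A ≅ Sp₄(q)` (Bruhat decomposition, Sylow 2-subgroup, perfect subgroups of `C(t)`) from
which `PFacts` (hence the fusion lemma) follows, for `B` and for `swap B`.
-/
set_option autoImplicit false
set_option linter.unusedSectionVars false

open Subgroup Pointwise
open scoped commutatorElement

namespace Cfsg.Agent.StdSpFour

namespace Env

variable {F G : Type*} [Field F] [Group G]

/-- membership in `U = X_a V₁` -/
def IsU (B : Base F G) (g : G) : Prop := ∃ u s m r, g = B.xa u * B.v1 s m r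

/-- the eight Weyl representatives -/
def IsW (B : Base F G) (n : G) : Prop :=
  n = 1 ∨ n = B.na ∨ n = B.nb ∨ n = B.na * B.nb ∨ n = B.nb * B.na ∨ n = B.na * B.nb * B.na ∨
    n = B.nb * B.na * B.nb ∨ n = B.na * B.nb * B.na * B.nb

end Env

open Env

/-- The environment. -/
structure Env {F G : Type*} [Field F] [Group G] (B : Base F G) (A : Subgroup G) : Prop where
  weyl : Weyl B
  self : B.Self
  xa_mem : ∀ u, B.xa u ∈ A
  xb_mem : ∀ u, B.xb u ∈ A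
  zs_mem : ∀ u, B.zs u ∈ A
  zl_mem : ∀ u, B.zl u ∈ A
  na_mem : B.na ∈ A
  nb_mem : B.nb ∈ A
  h_mem : ∀ α β, B.h α β ∈ A
  comm : ∀ x ∈ A, Commute x B.t
  t_nm : B.t ∉ A
  maxA : ∀ Q : Subgroup G, ⁅Q, Q⁆ = Q → (∀ x ∈ Q, Commute x B.t) → Q ≤ A
  bruhat : ∀ g ∈ A, ∃ u, IsU B u ∧ ∃ α β n, IsW B n ∧ ∃ u', IsU B u' ∧ g = u * B.h α β * n * u'
  syl : ∀ Q : Subgroup G, Q ≤ A → (∀ x ∈ Q, ∃ k : ℕ, x ^ 2 ^ k = 1) → (∀ u, IsU B u → u ∈ Q) → ∀ x ∈ Q, IsU B x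
  conjU : ∀ x ∈ A, x * x = 1 → ∃ a ∈ A, IsU B (a⁻¹ * x * a)

namespace Env

variable {F G : Type*} [Field F] [CharP F 2] [Finite F] [Group G] {B : Base F G} {A : Subgroup G}

theorem v1_xa (B : Base F G) (s m r u : F) :
    B.v1 s m r * B.xa u = B.xa u * B.v1 s (m + u * s) (r + u ^ 2 * s) := by
  rw [B.xa_v1, add_assoc, CharTwo.add_self_eq_zero, add_zero, add_assoc, CharTwo.add_self_eq_zero, add_zero]

theorem IsU.mul {g k : G} (hg : IsU B g) (hk : IsU B k) : IsU B (g * k) := by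
  obtain ⟨u, s, m, r, rfl⟩ := hg
  obtain ⟨u', s', m', r', rfl⟩ := hk
  refine ⟨u + u', s + s', m + u' * s + m', r + u' ^ 2 * s + r', ?_⟩
  rw [B.xa_add, ← B.v1_mul]
  calc B.xa u * B.v1 s m r * (B.xa u' * B.v1 s' m' r') = B.xa u * (B.v1 s m r * B.xa u') * B.v1 s' m' r' := by group
    _ = _ := by rw [v1_xa]; group

theorem IsU.one : IsU B 1 := ⟨0, 0, 0, 0, by rw [B.xa_zero, B.v1_zero, one_mul]⟩

theorem IsU.xa (u : F) : IsU B (B.xa u) := ⟨u, 0, 0, 0, by rw [B.v1_zero, mul_one]⟩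

theorem IsU.v1 (s m r : F) : IsU B (B.v1 s m r) := ⟨0, s, m, r, by rw [B.xa_zero, one_mul]⟩

theorem IsU.inv {g : G} (hg : IsU B g) : IsU B g⁻¹ := by
  obtain ⟨u, s, m, r, rfl⟩ := hg
  rw [mul_inv_rev, B.v1_inv, B.xa_inv]
  exact (IsU.v1 s m r).mul (IsU.xa u)

theorem nf_inj {u s m r u' s' m' r' : F} (h : B.xa u * B.v1 s m r = B.xa u' * B.v1 s' m' r') :
    u = u' ∧ s = s' ∧ m = m' ∧ r = r' := by
  have h1 : B.xa (u + u') * B.v1 (s + s') (m + m') (r + r') = 1 := by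
    rw [B.xa_add, ← B.v1_mul]
    calc B.xa u * B.xa u' * (B.v1 s m r * B.v1 s' m' r')
        = B.xa u' * (B.xa u * B.v1 s m r) * B.v1 s' m' r' := by
          rw [show B.xa u * B.xa u' = B.xa u' * B.xa u by rw [← B.xa_add, ← B.xa_add, add_comm]]; group
      _ = (B.xa u' * B.xa u') * (B.v1 s' m' r' * B.v1 s' m' r') := by rw [h]; group
      _ = 1 := by rw [B.xa_xa, B.v1_v1, one_mul]
  have h2 := B.inj (u + u') (s + s') (m + m') (r + r') (by
    rw [← h1, Base.v1]; group)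
  exact ⟨FieldAux.eq_of_add_eq_zero h2.1, FieldAux.eq_of_add_eq_zero h2.2.1,
    FieldAux.eq_of_add_eq_zero h2.2.2.1, FieldAux.eq_of_add_eq_zero h2.2.2.2⟩

theorem IsU.conj_h {g : G} (hg : IsU B g) (α β : Fˣ) : IsU B (B.h α β * g * (B.h α β)⁻¹) := by
  obtain ⟨u, s, m, r, rfl⟩ := hg
  refine ⟨α * u, β * s, α * β * m, α ^ 2 * β * r, ?_⟩
  calc B.h α β * (B.xa u * B.v1 s m r) * (B.h α β)⁻¹ = (B.h α β * B.xa u) * B.v1 s m r * (B.h α β)⁻¹ := by group
    _ = B.xa (α * u) * (B.h α β * B.v1 s m r) * (B.h α β)⁻¹ := by rw [B.h_xa]; group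
    _ = _ := by rw [B.h_v1]; group

/-- conjugation by an element of `U` fixes the elements of `Z`. -/
theorem IsU.comm_z {g : G} (hg : IsU B g) (m r : F) : Commute g (B.v1 0 m r) := by
  obtain ⟨u, s, m', r', rfl⟩ := hg
  apply Commute.mul_left
  · show B.xa u * B.v1 0 m r = B.v1 0 m r * B.xa u
    rw [B.xa_v1, mul_zero, mul_zero, add_zero, add_zero]
  · exact B.v1_comm _ _ _ _ _ _

theorem not_isU_na : ¬ IsU B B.na := by
  rintro ⟨u, s, m, r, h⟩
  have h1 := B.na_v1 1 0 0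
  have h2 : B.na * B.v1 1 0 0 = B.v1 1 u (u ^ 2) * B.na := by
    rw [h]
    calc B.xa u * B.v1 s m r * B.v1 1 0 0 = B.xa u * (B.v1 s m r * B.v1 1 0 0) := by group
      _ = B.xa u * (B.v1 1 0 0 * B.v1 s m r) := by rw [(B.v1_comm s m r 1 0 0).eq]
      _ = B.xa u * B.v1 1 0 0 * B.v1 s m r := by group
      _ = _ := by rw [B.xa_v1, mul_one, mul_one, zero_add, zero_add]; group
  rw [h1] at h2
  have h3 := mul_right_cancel h2
  exact zero_ne_one (B.v1_inj h3).1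

variable (hE : Env B A)
include hE

theorem na_inv : B.na⁻¹ = B.na := inv_eq_of_mul_eq_one_right hE.weyl.na_sq

theorem nb_inv : B.nb⁻¹ = B.nb := inv_eq_of_mul_eq_one_right hE.weyl.nb_sq

/-- `na = x_a(1) (na x_a(1) na) x_a(1)` -/
theorem na_eq : B.na = B.xa 1 * (B.na * B.xa 1 * B.na) * B.xa 1 := by
  have h := hE.weyl.na_xa
  have h1 : (B.na * B.xa 1 * B.na) * (B.xa 1 * B.na * B.xa 1) = 1 := by
    rw [← h, pow_succ, pow_two]; group
  have h2 : (B.na * B.xa 1 * B.na) = (B.xa 1 * B.na * B.xa 1)⁻¹ := eq_inv_of_mul_eq_one_left h1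
  rw [h2, mul_inv_rev, mul_inv_rev, B.xa_inv, hE.na_inv]
  calc B.na = (B.xa 1 * B.xa 1) * B.na * (B.xa 1 * B.xa 1) := by rw [B.xa_xa, one_mul, mul_one]
    _ = _ := by group

/-- `h(α,1)` moves `na x_a(u) na⁻¹` to `na x_a(α⁻¹u) na⁻¹`. -/
theorem conj_xma (α β : Fˣ) (u : F) : B.h α β * (B.na * B.xa u * B.na⁻¹) * (B.h α β)⁻¹ =
    B.na * B.xa ((α⁻¹ : Fˣ) * u) * B.na⁻¹ := by
  have h1 : B.h α β * B.na = B.na * B.h α⁻¹ (α ^ 2 * β) := by
    rw [B.na_h, inv_inv]; congr 2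
    rw [inv_pow, inv_mul_cancel_left]
  have h2 : B.na⁻¹ * (B.h α β)⁻¹ = (B.h α⁻¹ (α ^ 2 * β))⁻¹ * B.na⁻¹ := by
    rw [← mul_inv_rev, h1, mul_inv_rev]
  calc B.h α β * (B.na * B.xa u * B.na⁻¹) * (B.h α β)⁻¹
      = (B.h α β * B.na) * B.xa u * (B.na⁻¹ * (B.h α β)⁻¹) := by group
    _ = B.na * (B.h α⁻¹ (α ^ 2 * β) * B.xa u) * (B.h α⁻¹ (α ^ 2 * β))⁻¹ * B.na⁻¹ := by rw [h1, h2]; group
    _ = _ := by rw [B.h_xa]; group

theorem not_isU_xma {u : F} (hu : u ≠ 0) : ¬ IsU B (B.na * B.xa u * B.na⁻¹) := by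
  intro h
  have h1 := h.conj_h (Units.mk0 u hu) 1
  rw [hE.conj_xma] at h1
  have e : ((Units.mk0 u hu)⁻¹ : Fˣ) * u = 1 := by
    rw [Units.val_inv_eq_inv_val, Units.val_mk0, inv_mul_cancel₀ hu]
  rw [e, hE.na_inv] at h1
  apply not_isU_na (B := B)
  rw [hE.na_eq]
  exact ((IsU.xa 1).mul h1).mul (IsU.xa 1)

omit [CharP F 2] [Finite F] hE in
theorem comm_conj {n x y : G} (h : Commute x y) : Commute (n * x * n⁻¹) (n * y * n⁻¹) := by
  show n * x * n⁻¹ * (n * y * n⁻¹) = n * y * n⁻¹ * (n * x * n⁻¹)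
  calc n * x * n⁻¹ * (n * y * n⁻¹) = n * (x * y) * n⁻¹ := by group
    _ = _ := by rw [h.eq]; group

/-! ### the subgroups `L₁`, `P₁` -/

omit hE in
/-- generators of `P₁` -/
def PS (B : Base F G) : Set G := {x | x = B.na ∨ (∃ u, x = B.xa u) ∨ ∃ s m r, x = B.v1 s m r}

omit hE in
/-- `P₁ = ⟨na, X_a, V₁⟩` -/
def P1 (B : Base F G) : Subgroup G := closure (PS B)

omit hE in
/-- `L₁ = ⟨na, X_a⟩` -/
def L1 (B : Base F G) : Subgroup G := closure ({B.na} ∪ Set.range B.xa)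

omit hE in
theorem na_P1 : B.na ∈ P1 B := subset_closure (Or.inl rfl)
omit hE in
theorem xa_P1 (u : F) : B.xa u ∈ P1 B := subset_closure (Or.inr (Or.inl ⟨u, rfl⟩))
omit hE in
theorem v1_P1 (s m r : F) : B.v1 s m r ∈ P1 B := subset_closure (Or.inr (Or.inr ⟨s, m, r, rfl⟩))
omit hE in
theorem na_L1 : B.na ∈ L1 B := subset_closure (Or.inl rfl)
omit hE in
theorem xa_L1 (u : F) : B.xa u ∈ L1 B := subset_closure (Or.inr ⟨u, rfl⟩)

omit hE in
theorem L1_le : L1 B ≤ P1 B := by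
  rw [L1, closure_le]
  rintro _ (rfl | ⟨u, rfl⟩)
  · exact na_P1
  · exact xa_P1 u

omit hE in
theorem isU_P1 {g : G} (hg : IsU B g) : g ∈ P1 B := by
  obtain ⟨u, s, m, r, rfl⟩ := hg
  exact mul_mem (xa_P1 u) (v1_P1 s m r)

theorem P1_le : P1 B ≤ A := by
  rw [P1, closure_le]
  rintro _ (rfl | ⟨u, rfl⟩ | ⟨s, m, r, rfl⟩)
  · exact hE.na_mem
  · exact hE.xa_mem u
  · exact mul_mem (mul_mem (hE.xb_mem s) (hE.zs_mem m)) (hE.zl_mem r)

theorem isU_mem {g : G} (hg : IsU B g) : g ∈ A := hE.P1_le (isU_P1 hg)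

theorem v_norm_both {x : G} (hx : x ∈ P1 B) : ∀ s m r, (∃ s' m' r', x⁻¹ * B.v1 s m r * x = B.v1 s' m' r') ∧
    ∃ s' m' r', x * B.v1 s m r * x⁻¹ = B.v1 s' m' r' := by
  rw [P1] at hx
  induction hx using closure_induction with
  | mem y hy =>
    intro s m r
    rcases hy with rfl | ⟨u, rfl⟩ | ⟨s', m', r', rfl⟩
    · have h1 : B.na * B.v1 s m r * B.na⁻¹ = B.v1 r m s := by rw [B.na_v1]; group
      refine ⟨⟨r, m, s, ?_⟩, ⟨r, m, s, h1⟩⟩
      rw [← h1, hE.na_inv]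
    · have h1 : B.xa u * B.v1 s m r * (B.xa u)⁻¹ = B.v1 s (m + u * s) (r + u ^ 2 * s) := by rw [B.xa_v1]; group
      refine ⟨⟨s, m + u * s, r + u ^ 2 * s, ?_⟩, ⟨_, _, _, h1⟩⟩
      rw [← h1, B.xa_inv]
    · have h1 : B.v1 s' m' r' * B.v1 s m r * (B.v1 s' m' r')⁻¹ = B.v1 s m r := by
        rw [(B.v1_comm s' m' r' s m r).eq]; group
      have h2 : (B.v1 s' m' r')⁻¹ * B.v1 s m r * B.v1 s' m' r' = B.v1 s m r := by
        rw [mul_assoc, (B.v1_comm s m r s' m' r').eq]; group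
      exact ⟨⟨_, _, _, h2⟩, ⟨_, _, _, h1⟩⟩
  | one => intro s m r; exact ⟨⟨s, m, r, by group⟩, ⟨s, m, r, by group⟩⟩
  | mul x y _ _ hx hy =>
    intro s m r
    obtain ⟨⟨s1, m1, r1, h1⟩, -⟩ := hx s m r
    obtain ⟨⟨s2, m2, r2, h2⟩, -⟩ := hy s1 m1 r1
    obtain ⟨-, ⟨s3, m3, r3, h3⟩⟩ := hy s m r
    obtain ⟨-, ⟨s4, m4, r4, h4⟩⟩ := hx s3 m3 r3
    refine ⟨⟨s2, m2, r2, ?_⟩, ⟨s4, m4, r4, ?_⟩⟩
    · rw [← h2, ← h1]; group
    · rw [← h4, ← h3]; group
  | inv x _ hx =>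
    intro s m r
    obtain ⟨⟨s1, m1, r1, h1⟩, ⟨s2, m2, r2, h2⟩⟩ := hx s m r
    refine ⟨⟨s2, m2, r2, ?_⟩, ⟨s1, m1, r1, ?_⟩⟩
    · rw [← h2]; group
    · rw [← h1]; group

theorem split {x : G} (hx : x ∈ P1 B) : ∃ l ∈ L1 B, ∃ s m r, x = l * B.v1 s m r := by
  rw [P1] at hx
  induction hx using closure_induction with
  | mem y hy =>
    rcases hy with rfl | ⟨u, rfl⟩ | ⟨s', m', r', rfl⟩
    · exact ⟨B.na, na_L1, 0, 0, 0, by rw [B.v1_zero, mul_one]⟩
    · exact ⟨B.xa u, xa_L1 u, 0, 0, 0, by rw [B.v1_zero, mul_one]⟩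
    · exact ⟨1, one_mem _, s', m', r', by rw [one_mul]⟩
  | one => exact ⟨1, one_mem _, 0, 0, 0, by rw [B.v1_zero, mul_one]⟩
  | mul x y _ _ hx hy =>
    obtain ⟨l, hl, s, m, r, rfl⟩ := hx
    obtain ⟨l', hl', s', m', r', rfl⟩ := hy
    obtain ⟨⟨s1, m1, r1, h1⟩, -⟩ := hE.v_norm_both (L1_le hl') s m r
    refine ⟨l * l', mul_mem hl hl', s1 + s', m1 + m', r1 + r', ?_⟩
    rw [← B.v1_mul, ← h1]; group
  | inv x _ hx =>
    obtain ⟨l, hl, s, m, r, rfl⟩ := hx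
    obtain ⟨-, ⟨s1, m1, r1, h1⟩⟩ := hE.v_norm_both (L1_le hl) s m r
    refine ⟨l⁻¹, inv_mem hl, s1, m1, r1, ?_⟩
    rw [← h1, mul_inv_rev, B.v1_inv]; group

theorem z1 {x : G} (hx : x ∈ P1 B) (w : F) : Commute x (B.zs w) := by
  rw [P1] at hx
  induction hx using closure_induction with
  | mem y hy =>
    rcases hy with rfl | ⟨u, rfl⟩ | ⟨s', m', r', rfl⟩
    · exact B.na_zs w
    · exact B.xa_zs u w
    · rw [← Base.v1_zs]; exact B.v1_comm _ _ _ _ _ _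
  | one => exact Commute.one_left _
  | mul x y _ _ hx hy => exact hx.mul_left hy
  | inv x _ hx => exact hx.inv_left

/-- the torus of `L₁` -/
theorem tor (α : Fˣ) : B.h α α⁻¹ ∈ L1 B := by
  obtain ⟨β, hβ⟩ : ∃ β : Fˣ, β ^ 2 = α := ⟨Swap.rtU α, Swap.sq_rtU α⟩
  have h1 : B.h β 1 * B.na * (B.h β 1)⁻¹ = B.h (β ^ 2) (β ^ 2)⁻¹ * B.na := by
    rw [B.h_inv, mul_assoc, B.na_h, ← mul_assoc, ← B.h_mul]
    congr 2
    · rw [inv_inv, sq]
    · rw [inv_one, mul_one, one_mul, inv_pow]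
  have h2 : B.h β 1 * B.na * (B.h β 1)⁻¹ = B.xa β * (B.na * B.xa ((β⁻¹ : Fˣ) : F) * B.na⁻¹) * B.xa β := by
    have h3 := hE.conj_xma β 1 1
    rw [mul_one] at h3
    have h4 : B.h β 1 * B.xa 1 * (B.h β 1)⁻¹ = B.xa β := by rw [B.h_xa, mul_one]; group
    conv_lhs => rw [hE.na_eq]
    calc B.h β 1 * (B.xa 1 * (B.na * B.xa 1 * B.na) * B.xa 1) * (B.h β 1)⁻¹
        = (B.h β 1 * B.xa 1 * (B.h β 1)⁻¹) * (B.h β 1 * (B.na * B.xa 1 * B.na) * (B.h β 1)⁻¹) *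
          (B.h β 1 * B.xa 1 * (B.h β 1)⁻¹) := by group
      _ = _ := by rw [h4, ← h3, hE.na_inv]
  rw [← hβ]
  have h5 : B.h (β ^ 2) (β ^ 2)⁻¹ = B.xa β * (B.na * B.xa ((β⁻¹ : Fˣ) : F) * B.na⁻¹) * B.xa β * B.na⁻¹ := by
    rw [← h2, h1]; group
  rw [h5]
  exact mul_mem (mul_mem (mul_mem (xa_L1 _) (mul_mem (mul_mem na_L1 (xa_L1 _)) (inv_mem na_L1))) (xa_L1 _))
    (inv_mem na_L1)

omit hE in
theorem comm_le (P : Subgroup G) : ⁅P, P⁆ ≤ P := by
  rw [commutator_le]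
  intro g hg k hk
  exact mul_mem (mul_mem (mul_mem hg hk) (inv_mem hg)) (inv_mem hk)

omit hE in
theorem conj_comm {P : Subgroup G} {g c : G} (hg : g ∈ P) (hc : c ∈ ⁅P, P⁆) : g * c * g⁻¹ ∈ ⁅P, P⁆ := by
  have h1 : g * c * g⁻¹ = ⁅g, c⁆ * c := by rw [commutatorElement_def]; group
  rw [h1]
  exact mul_mem (commutator_mem_commutator hg (comm_le P hc)) hc

theorem perf1 (hF : 4 ≤ Nat.card F) : ⁅P1 B, P1 B⁆ = P1 B := by
  have := Fintype.ofFinite F
  rw [Nat.card_eq_fintype_card] at hF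
  obtain ⟨α, hα⟩ := Base.exists_unit_ne hF
  have hα' : ((α : F) + 1) ≠ 0 := by
    intro h
    exact hα (Units.ext (by rw [Units.val_one]; exact FieldAux.eq_of_add_eq_zero h))
  have hβ' : (((α⁻¹ : Fˣ) : F) + 1) ≠ 0 := by
    intro h
    have h1 : ((α⁻¹ : Fˣ) : F) = 1 := FieldAux.eq_of_add_eq_zero h
    have h2 : α⁻¹ = 1 := Units.ext (by rw [h1, Units.val_one])
    exact hα (inv_eq_one.1 h2)
  have hh : B.h α α⁻¹ ∈ P1 B := L1_le (hE.tor α)
  apply le_antisymm (comm_le _)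
  set C := ⁅P1 B, P1 B⁆ with hC
  have hxa : ∀ u, B.xa u ∈ C := by
    intro u
    have h1 : ⁅B.h α α⁻¹, B.xa (((α : F) + 1)⁻¹ * u)⁆ = B.xa u := by
      rw [commutatorElement_def, B.h_xa, B.xa_inv]
      have : B.xa (α * (((α : F) + 1)⁻¹ * u)) * B.xa (((α : F) + 1)⁻¹ * u) = B.xa u := by
        rw [← B.xa_add]; congr 1
        field_simp
      rw [← this]; group
    rw [← h1]
    exact commutator_mem_commutator hh (xa_P1 _)
  have hxb : ∀ u, B.xb u ∈ C := by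
    intro u
    have h1 : ⁅B.h α α⁻¹, B.v1 ((((α⁻¹ : Fˣ) : F) + 1)⁻¹ * u) 0 0⁆ = B.xb u := by
      rw [commutatorElement_def, Base.v1_xb, B.h_xb, B.xb_inv]
      have : B.xb ((α⁻¹ : Fˣ) * ((((α⁻¹ : Fˣ) : F) + 1)⁻¹ * u)) * B.xb ((((α⁻¹ : Fˣ) : F) + 1)⁻¹ * u) = B.xb u := by
        rw [← B.xb_add]; congr 1
        field_simp
      rw [← this]; group
    rw [← h1]
    exact commutator_mem_commutator hh (v1_P1 _ _ _)
  have hzl : ∀ u, B.zl u ∈ C := by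
    intro u
    have h1 : B.na * B.xb u * B.na⁻¹ = B.zl u := by rw [B.na_xb]; group
    rw [← h1]
    exact conj_comm na_P1 (hxb u)
  have hzs : ∀ u, B.zs u ∈ C := by
    intro u
    have h1 : B.zs u = (B.xb u * B.xa 1)⁻¹ * (B.xa 1 * B.xb u) * (B.zl u)⁻¹ := by
      rw [B.xa_xb, one_mul, one_pow, one_mul]; group
    rw [h1]
    exact mul_mem (mul_mem (inv_mem (mul_mem (hxb u) (hxa 1))) (mul_mem (hxa 1) (hxb u))) (inv_mem (hzl u))
  rw [P1, closure_le]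
  rintro _ (rfl | ⟨u, rfl⟩ | ⟨s, m, r, rfl⟩)
  · show B.na ∈ C
    rw [hE.na_eq]
    have h1 := conj_comm (P := P1 B) na_P1 (hxa 1)
    rw [hE.na_inv] at h1
    exact mul_mem (mul_mem (hxa 1) h1) (hxa 1)
  · exact hxa u
  · exact mul_mem (mul_mem (hxb s) (hzs m)) (hzl r)

theorem conj_h {x : G} (hx : x ∈ P1 B) (α β : Fˣ) : B.h α β * x * (B.h α β)⁻¹ ∈ P1 B := by
  rw [P1] at hx
  induction hx using closure_induction with
  | mem y hy =>
    rcases hy with rfl | ⟨u, rfl⟩ | ⟨s', m', r', rfl⟩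
    · have h1 : B.h α β * B.na * (B.h α β)⁻¹ = B.h (α ^ 2) (α ^ 2)⁻¹ * B.na := by
        rw [B.h_inv, mul_assoc, B.na_h, ← mul_assoc, ← B.h_mul]
        congr 2
        · rw [inv_inv, sq]
        · rw [inv_pow, mul_comm (α ^ 2)⁻¹, mul_inv_cancel_left]
      rw [h1]
      exact mul_mem (L1_le (hE.tor _)) na_P1
    · have h1 : B.h α β * B.xa u * (B.h α β)⁻¹ = B.xa (α * u) := by rw [B.h_xa]; group
      rw [h1]; exact xa_P1 _
    · have h1 : B.h α β * B.v1 s' m' r' * (B.h α β)⁻¹ = B.v1 (β * s') (α * β * m') (α ^ 2 * β * r') := by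
        rw [B.h_v1]; group
      rw [h1]; exact v1_P1 _ _ _
  | one => rw [mul_one, mul_inv_cancel]; exact one_mem _
  | mul x y _ _ hx hy =>
    have h1 : B.h α β * (x * y) * (B.h α β)⁻¹ = (B.h α β * x * (B.h α β)⁻¹) * (B.h α β * y * (B.h α β)⁻¹) := by group
    rw [h1]; exact mul_mem hx hy
  | inv x _ hx =>
    have h1 : B.h α β * x⁻¹ * (B.h α β)⁻¹ = (B.h α β * x * (B.h α β)⁻¹)⁻¹ := by group
    rw [h1]; exact inv_mem hx

/-- `C_{P₁}(P₁) = Z_s` -/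
theorem center1 {x : G} (hx : x ∈ P1 B) (hc : ∀ y ∈ P1 B, Commute x y) : ∃ m, x = B.zs m := by
  have h1 : ∃ s m r, x = B.v1 s m r := by
    obtain ⟨s, m, r, h⟩ := hE.self.cent1 x (hE.comm x (hE.P1_le hx))
      (fun u => by rw [← Base.v1_xb]; exact hc _ (v1_P1 _ _ _))
      (fun u => by rw [← Base.v1_zs]; exact hc _ (v1_P1 _ _ _))
      (fun u => by rw [← Base.v1_zl]; exact hc _ (v1_P1 _ _ _))
    refine ⟨s, m, r, ?_⟩
    rcases h with h | h
    · exact h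
    · exfalso
      apply hE.t_nm
      have h2 : B.t = x * (B.v1 s m r)⁻¹ := by rw [h, Base.v1]; group
      rw [h2]
      exact mul_mem (hE.P1_le hx) (inv_mem (hE.P1_le (v1_P1 s m r)))
  obtain ⟨s, m, r, rfl⟩ := h1
  have h2 := (hc _ (xa_P1 1)).eq
  rw [B.xa_v1, one_mul, one_pow, one_mul] at h2
  have h2' : B.v1 s m r * B.xa 1 = B.v1 s (m + s) (r + s) * B.xa 1 := h2
  have h3 := (B.v1_inj (mul_right_cancel h2')).2.1
  have hs : s = 0 := by
    have h4 : m + 0 = m + s := by rw [add_zero]; exact h3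
    exact (add_left_cancel h4).symm
  have h4 := (hc _ na_P1).eq
  rw [B.na_v1] at h4
  have h5 := (B.v1_inj (mul_right_cancel h4)).1
  rw [hs] at h5
  refine ⟨m, ?_⟩
  rw [hs, ← h5, Base.v1_zs]

end Env

end Cfsg.Agent.StdSpFour
end

private theorem dce_bab112feeb6b : _root_.True := by
  try have : _root_.True := by simp only [_root_.Cfsg.Agent.StdSpFour.Env.P1.eq_1]
  try have : _root_.True := by simp only [_root_.Cfsg.Agent.StdSpFour.Env.L1.eq_1]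
  exact _root_.True.intro
end

-- part: StdSpFour/EnvFacts
section
prune_inst 0x7f00000042050000000000000000000000000000000002300000100020003080122a54427000000020008002a002800000001000040420000000a000c00400100000080000221000000000006008000000000000000000000000000000000000000000000000
set_option linter.all false
open scoped Cfsg.Agent.FastGrp

-- part: StdSpFour/EnvSwap
section
/-!
`Env (swap B) A` from `Env B A`.
-/
set_option autoImplicit false
set_option linter.unusedSectionVars false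

open Subgroup Pointwise
open scoped commutatorElement

namespace Cfsg.Agent.StdSpFour

open Swap Env

namespace EnvSwap

variable {F G : Type*} [Field F] [CharP F 2] [Finite F] [Group G] {B : Base F G} {A : Subgroup G}

theorem isU_swap {g : G} : IsU (swap B) g ↔ IsU B g := by
  constructor
  · rintro ⟨u, s, m, r, h⟩
    refine ⟨rt s, u, rt s * u + rt r, rt s ^ 2 * u + m, ?_⟩
    rw [h]
    show B.xb u * (B.xa (rt s) * B.zl m * B.zs (rt r)) = B.xa (rt s) * (B.xb u * B.zs _ * B.zl _)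
    have := norm_eq B u (rt s) m (rt r)
    calc B.xb u * (B.xa (rt s) * B.zl m * B.zs (rt r)) = B.xb u * B.xa (rt s) * B.zl m * B.zs (rt r) := by group
      _ = _ := by rw [this]; group
  · rintro ⟨u, s, m, r, h⟩
    refine ⟨s, u ^ 2, u ^ 2 * s + r, (u * s + m) ^ 2, ?_⟩
    rw [h]
    show B.xa u * (B.xb s * B.zs m * B.zl r) =
      B.xb s * (B.xa (rt (u ^ 2)) * B.zl (u ^ 2 * s + r) * B.zs (rt ((u * s + m) ^ 2)))
    have h1 := norm_eq B s u (u ^ 2 * s + r) (u * s + m)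
    rw [rt_sq, rt_sq]
    have e1 : u * s + (u * s + m) = m := by
      rw [← add_assoc, CharTwo.add_self_eq_zero, zero_add]
    have e2 : u ^ 2 * s + (u ^ 2 * s + r) = r := by
      rw [← add_assoc, CharTwo.add_self_eq_zero, zero_add]
    rw [e1, e2] at h1
    calc B.xa u * (B.xb s * B.zs m * B.zl r) = B.xa u * B.xb s * B.zs m * B.zl r := by group
      _ = _ := by rw [← h1]; group

theorem weyl_swap (h : Weyl B) : Weyl (swap B) where
  na_sq := h.nb_sq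
  nb_sq := h.na_sq
  na_xa := h.nb_xb
  nb_xb := by
    show (B.na * B.xa (rt 1)) ^ 3 = 1
    rw [rt_one]; exact h.na_xa
  braid := by
    show (B.nb * B.na) ^ 4 = 1
    have h1 : (B.nb * B.na) ^ 4 = B.na⁻¹ * (B.na * B.nb) ^ 4 * B.na := by
      simp only [pow_succ, pow_zero, one_mul]; group
    rw [h1, h.braid, mul_one, inv_mul_cancel]

theorem braid' (h : Weyl B) : B.na * B.nb * B.na * B.nb = B.nb * B.na * B.nb * B.na := by
  have hna : B.na⁻¹ = B.na := inv_eq_of_mul_eq_one_right h.na_sq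
  have hnb : B.nb⁻¹ = B.nb := inv_eq_of_mul_eq_one_right h.nb_sq
  have h1 : (B.na * B.nb * B.na * B.nb) * (B.na * B.nb * B.na * B.nb) = 1 := by
    rw [← h.braid]
    simp only [pow_succ, pow_zero, one_mul]; group
  have h2 := eq_inv_of_mul_eq_one_left h1
  rw [h2]
  simp only [mul_inv_rev, hna, hnb, mul_assoc]

theorem isW_swap (h : Weyl B) {n : G} (hn : IsW B n) : IsW (swap B) n := by
  rcases hn with rfl | rfl | rfl | rfl | rfl | rfl | rfl | rfl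
  · exact Or.inl rfl
  · exact Or.inr (Or.inr (Or.inl rfl))
  · exact Or.inr (Or.inl rfl)
  · exact Or.inr (Or.inr (Or.inr (Or.inr (Or.inl rfl))))
  · exact Or.inr (Or.inr (Or.inr (Or.inl rfl)))
  · exact Or.inr (Or.inr (Or.inr (Or.inr (Or.inr (Or.inr (Or.inl rfl))))))
  · exact Or.inr (Or.inr (Or.inr (Or.inr (Or.inr (Or.inl rfl)))))
  · exact Or.inr (Or.inr (Or.inr (Or.inr (Or.inr (Or.inr (Or.inr (braid' h)))))))

theorem env_swap (hE : Env B A) : Env (swap B) A where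
  weyl := weyl_swap hE.weyl
  self := swap_self B hE.self
  xa_mem := fun u => hE.xb_mem u
  xb_mem := fun u => hE.xa_mem _
  zs_mem := fun u => hE.zl_mem u
  zl_mem := fun u => hE.zs_mem _
  na_mem := hE.nb_mem
  nb_mem := hE.na_mem
  h_mem := fun α β => hE.h_mem _ _
  comm := hE.comm
  t_nm := hE.t_nm
  maxA := hE.maxA
  bruhat := by
    intro g hg
    obtain ⟨u, hu, α, β, n, hn, u', hu', h⟩ := hE.bruhat g hg
    refine ⟨u, isU_swap.2 hu, β, α ^ 2, n, isW_swap hE.weyl hn, u', isU_swap.2 hu', ?_⟩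
    rw [h]
    show _ = u * B.h (rtU (α ^ 2)) β * n * u'
    rw [rtU_sq]
  syl := fun Q h1 h2 h3 x hx => isU_swap.2 (hE.syl Q h1 h2 (fun u hu => h3 u (isU_swap.2 hu)) x hx)
  conjU := by
    intro x hx h1
    obtain ⟨a, ha, h2⟩ := hE.conjU x hx h1
    exact ⟨a, ha, isU_swap.2 h2⟩

end EnvSwap

end Cfsg.Agent.StdSpFour
end

-- part: StdSpFour/ShortMake
section
/-! Construction of the `ShortLayer` from an element of `N₄` moving `t`. -/
set_option autoImplicit false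
set_option linter.unusedSectionVars false

namespace Cfsg.Agent.StdSpFour
namespace Base

variable {F G : Type*} [Field F] [CharP F 2] [Group G] {B : Base F G}

variable (B) in
/-- elements of `N₄` commuting with `T_a` -/
structure IsX (m : G) : Prop extends B.IsN4 m where
  comm_h : ∀ α : Fˣ, Commute m (B.h α α⁻¹)

namespace IsX

theorem mul {m n : G} (hm : B.IsX m) (hn : B.IsX n) : B.IsX (m * n) :=
  ⟨hm.toIsN4.mul hn.toIsN4, fun α => (hm.comm_h α).mul_left (hn.comm_h α)⟩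

theorem inv {m : G} (hm : B.IsX m) : B.IsX m⁻¹ :=
  ⟨hm.toIsN4.inv, fun α => (hm.comm_h α).inv_left⟩

theorem conj_h {m : G} (hm : B.IsX m) (β : Fˣ) : B.IsX (B.h 1 β * m * (B.h 1 β)⁻¹) :=
  ⟨hm.toIsN4.conj_h β, fun α =>
    ((B.h_comm 1 β α α⁻¹).mul_left (hm.comm_h α)).mul_left (B.h_comm 1 β α α⁻¹).inv_left⟩

theorem v1_zero_of_comm [Fintype F] (hF : 4 ≤ Fintype.card F) {s k r : F}
    (h : ∀ α : Fˣ, Commute (B.v1 s k r) (B.h α α⁻¹)) : s = 0 ∧ r = 0 := by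
  obtain ⟨α, hα⟩ := exists_unit_ne hF
  have h1 := (h α).eq
  rw [ha_v1] at h1
  obtain ⟨h2, -, h3⟩ := B.v1_inj (mul_left_cancel h1)
  constructor
  · by_contra hs
    exact hα (Units.ext (mul_right_cancel₀ hs (by rw [h2, Units.val_one, one_mul])))
  · by_contra hs
    have : α⁻¹ = 1 := Units.ext (mul_right_cancel₀ hs (by rw [h3, Units.val_one, one_mul]))
    exact hα (inv_eq_one.1 this)

variable [Fintype F] (hF : 4 ≤ Fintype.card F)
include hF

theorem cent_t (hB : B.Self) {m : G} (hm : B.IsX m) (ht : Commute m B.t) :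
    ∃ k, m = B.zs k ∨ m = B.t * B.zs k := by
  obtain ⟨s, k, r, h | h⟩ := hm.toIsN4.cent_t hB ht
  · obtain ⟨h1, h2⟩ := v1_zero_of_comm (B := B) hF (s := s) (k := k) (r := r) (by rw [← h]; exact hm.comm_h)
    exact ⟨k, Or.inl (by rw [h, h1, h2, v1_zs])⟩
  · have h3 : ∀ α : Fˣ, Commute (B.v1 s k r) (B.h α α⁻¹) := by
      intro α
      have h4 : B.v1 s k r = B.t * m := by rw [h, ← mul_assoc, B.tt, one_mul]
      rw [h4]
      exact (B.t_h α α⁻¹).mul_left (hm.comm_h α)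
    obtain ⟨h1, h2⟩ := v1_zero_of_comm (B := B) hF h3
    exact ⟨k, Or.inr (by rw [h, h1, h2, v1_zs])⟩

theorem sq (hB : B.Self) {m : G} (hm : B.IsX m) : ∃ k, m * m = B.zs k := by
  obtain ⟨s, k, r, h⟩ := hm.toIsN4.sq hB
  obtain ⟨h1, h2⟩ := v1_zero_of_comm (B := B) hF (s := s) (k := k) (r := r) (by
    rw [← h]; exact fun α => (hm.comm_h α).mul_left (hm.comm_h α))
  exact ⟨k, by rw [h, h1, h2, v1_zs]⟩

theorem comm (hB : B.Self) {m n : G} (hm : B.IsX m) (hn : B.IsX n) : ∃ k, m * n = n * m * B.zs k := by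
  obtain ⟨s, k, r, h⟩ := hm.toIsN4.comm hB hn.toIsN4
  obtain ⟨h1, h2⟩ := v1_zero_of_comm (B := B) hF (s := s) (k := k) (r := r) (by
    have h3 : B.v1 s k r = (n * m)⁻¹ * (m * n) := by rw [h]; group
    rw [h3]
    exact fun α => ((hn.comm_h α).mul_left (hm.comm_h α)).inv_left.mul_left
      ((hm.comm_h α).mul_left (hn.comm_h α)))
  exact ⟨k, by rw [h, h1, h2, v1_zs]⟩

end IsX

theorem IsX.zs_comm {m : G} (hm : B.IsX m) (k : F) : Commute m (B.zs k) := by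
  rw [← v1_zs]; exact hm.cent _ _ _

theorem h1_zs (β : Fˣ) (k : F) : B.h 1 β * B.zs k * (B.h 1 β)⁻¹ = B.zs (β * k) := by
  rw [← v1_zs, h1_v1, mul_zero, v1_zs]

theorem tr_conj {m : G} {w : F} (hw : m⁻¹ * B.t * m = B.t * B.zs w) (β : Fˣ) :
    (B.h 1 β * m * (B.h 1 β)⁻¹)⁻¹ * B.t * (B.h 1 β * m * (B.h 1 β)⁻¹) = B.t * B.zs (β * w) := by
  have h3 := (B.t_h 1 β).eq
  rw [← h1_zs]
  calc (B.h 1 β * m * (B.h 1 β)⁻¹)⁻¹ * B.t * (B.h 1 β * m * (B.h 1 β)⁻¹)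
      = B.h 1 β * m⁻¹ * ((B.h 1 β)⁻¹ * (B.t * B.h 1 β)) * m * (B.h 1 β)⁻¹ := by group
    _ = B.h 1 β * (m⁻¹ * B.t * m) * (B.h 1 β)⁻¹ := by rw [h3]; group
    _ = (B.h 1 β * B.t) * B.zs w * (B.h 1 β)⁻¹ := by rw [hw]; group
    _ = _ := by rw [← h3]; group

/-- Construction of the short layer. -/
theorem exists_shortLayer [Fintype F] (hF : 4 ≤ Fintype.card F) (hB : B.Self) {y0 : G} (hy0 : B.IsX y0)
    {w0 : F} (hw0 : w0 ≠ 0) (hyw : y0⁻¹ * B.t * y0 = B.t * B.zs w0) : Nonempty (ShortLayer B) := by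
  classical
  obtain ⟨l, hl⟩ := exists_unit_ne hF
  have hl1 : (1 : F) + l ≠ 0 := fun h => hl (Units.ext (FieldAux.eq_of_add_eq_zero h).symm)
  -- normalise: translation `(1 + l)⁻¹`
  set c : Fˣ := Units.mk0 ((1 + (l : F))⁻¹ * w0⁻¹) (mul_ne_zero (inv_ne_zero hl1) (inv_ne_zero hw0)) with hc
  set y := B.h 1 c * y0 * (B.h 1 c)⁻¹ with hy
  have hyX : B.IsX y := hy0.conj_h c
  have hyt : y⁻¹ * B.t * y = B.t * B.zs ((1 + (l : F))⁻¹) := by
    rw [hy, tr_conj hyw]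
    congr 2
    rw [hc, Units.val_mk0, mul_assoc, inv_mul_cancel₀ hw0, mul_one]
  -- the family `Y`
  set Y : F → G := fun m => if h : m = 0 then 1 else B.h 1 (Units.mk0 m h) * y * (B.h 1 (Units.mk0 m h))⁻¹ with hY
  have hY0 : Y 0 = 1 := by simp [hY]
  have hYne : ∀ (m : F) (h : m ≠ 0), Y m = B.h 1 (Units.mk0 m h) * y * (B.h 1 (Units.mk0 m h))⁻¹ := by
    intro m h; simp [hY, h]
  have one_X : B.IsX 1 := by
    refine ⟨?_, fun α => Commute.one_left _⟩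
    have := IsN4.of_v1 (B := B) 0 0 0
    rwa [B.v1_zero] at this
  have hYX : ∀ m, B.IsX (Y m) := by
    intro m
    by_cases h : m = 0
    · rw [h, hY0]; exact one_X
    · rw [hYne m h]; exact hyX.conj_h _
  have hYt : ∀ m, (Y m)⁻¹ * B.t * Y m = B.t * B.zs ((1 + (l : F))⁻¹ * m) := by
    intro m
    by_cases h : m = 0
    · rw [h, hY0, mul_zero, B.zs_zero]; group
    · rw [hYne m h, tr_conj hyt, Units.val_mk0, mul_comm]
  have hYh : ∀ (β : Fˣ) m, B.h 1 β * Y m * (B.h 1 β)⁻¹ = Y (β * m) := by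
    intro β m
    by_cases h : m = 0
    · rw [h, mul_zero, hY0]; group
    · have h' : (β : F) * m ≠ 0 := mul_ne_zero β.ne_zero h
      rw [hYne m h, hYne _ h']
      have e : B.h 1 (Units.mk0 ((β : F) * m) h') = B.h 1 β * B.h 1 (Units.mk0 m h) := by
        rw [← B.h_mul, mul_one]
        congr 1
        ext; simp
      rw [e]; group
  -- the family `p`
  set p : F → G := fun m => (Y m)⁻¹ * (B.h 1 l * Y m * (B.h 1 l)⁻¹) with hp
  have hpX : ∀ m, B.IsX (p m) := fun m => (hYX m).inv.mul ((hYX m).conj_h l)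
  have hpt : ∀ m, (p m)⁻¹ * B.t * p m = B.t * B.zs m := by
    intro m
    have h1 : ((Y m)⁻¹)⁻¹ * B.t * (Y m)⁻¹ = B.t * B.zs ((1 + (l : F))⁻¹ * m) := by
      rw [inv_inv]; exact (hYX m).toIsN4.tr_inv (hYt m)
    have h2 := IsN4.tr_mul ((hYX m).conj_h l).toIsN4 h1 (tr_conj (hYt m) l)
    rw [h2]
    congr 2
    field_simp
  have hp0 : p 0 = 1 := by simp only [hp, hY0]; group
  have hph : ∀ (β : Fˣ) m, B.h 1 β * p m * (B.h 1 β)⁻¹ = p (β * m) := by
    intro β m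
    simp only [hp]
    rw [← hYh β m]
    have e := (B.h_comm 1 β 1 l).eq
    calc B.h 1 β * ((Y m)⁻¹ * (B.h 1 l * Y m * (B.h 1 l)⁻¹)) * (B.h 1 β)⁻¹
        = (B.h 1 β * (Y m)⁻¹ * (B.h 1 β)⁻¹) * ((B.h 1 β * B.h 1 l) * Y m * (B.h 1 β * B.h 1 l)⁻¹) := by group
      _ = _ := by rw [e]; group
  have htp : ∀ m, B.t * p m = p m * B.t * B.zs m := by
    intro m
    rw [mul_assoc, ← hpt m]; group
  -- additivity modulo `Z_s`
  have hpadd : ∀ m m', ∃ k, p m * p m' = p (m + m') * B.zs k := by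
    intro m m'
    obtain ⟨a, ha⟩ : ∃ a, a = Y m := ⟨_, rfl⟩
    obtain ⟨b, hb⟩ : ∃ b, b = Y m' := ⟨_, rfl⟩
    obtain ⟨cc, hcc⟩ : ∃ cc, cc = Y (m + m') := ⟨_, rfl⟩
    obtain ⟨H, hH⟩ : ∃ H, H = B.h 1 l := ⟨_, rfl⟩
    have haX : B.IsX a := ha ▸ hYX m
    have hbX : B.IsX b := hb ▸ hYX m'
    have hcX : B.IsX cc := hcc ▸ hYX (m + m')
    have hta : a⁻¹ * B.t * a = B.t * B.zs ((1 + (l : F))⁻¹ * m) := ha ▸ hYt m
    have htb : b⁻¹ * B.t * b = B.t * B.zs ((1 + (l : F))⁻¹ * m') := hb ▸ hYt m'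
    have htc : cc⁻¹ * B.t * cc = B.t * B.zs ((1 + (l : F))⁻¹ * (m + m')) := hcc ▸ hYt (m + m')
    have hpa : p m = a⁻¹ * (H * a * H⁻¹) := by simp only [hp, ha, hH]
    have hpb : p m' = b⁻¹ * (H * b * H⁻¹) := by simp only [hp, hb, hH]
    have hpc : p (m + m') = cc⁻¹ * (H * cc * H⁻¹) := by simp only [hp, hcc, hH]
    have hHz : ∀ k, H * B.zs k * H⁻¹ = B.zs (l * k) := fun k => by rw [hH, h1_zs]
    -- `a b = cc * d`, `d` centralises `t`
    have hd : ∃ k, cc⁻¹ * (a * b) = B.zs k ∨ cc⁻¹ * (a * b) = B.t * B.zs k := by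
      refine IsX.cent_t hF hB (hcX.inv.mul (haX.mul hbX)) ?_
      apply IsN4.commute_of_tr
      have h1 := IsN4.tr_mul hbX.toIsN4 hta htb
      have h2 : (cc⁻¹)⁻¹ * B.t * cc⁻¹ = B.t * B.zs ((1 + (l : F))⁻¹ * (m + m')) := by
        rw [inv_inv]; exact hcX.toIsN4.tr_inv htc
      have h3 := IsN4.tr_mul (haX.mul hbX).toIsN4 h2 h1
      rw [h3]
      congr 2
      rw [mul_add, CharTwo.add_self_eq_zero]
    have hσ : ∀ g : G, B.IsX g → B.IsX (H * g * H⁻¹) := fun g hg => by rw [hH]; exact hg.conj_h l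
    obtain ⟨k1, hk1⟩ := IsX.comm hF hB (hσ a haX) hbX.inv
    obtain ⟨k2, hk2⟩ := IsX.comm hF hB hbX haX
    have e1 : p m * p m' = (b * a)⁻¹ * (H * (a * b) * H⁻¹) * B.zs k1 := by
      rw [hpa, hpb]
      have z1 := ((hσ b hbX).zs_comm k1).eq
      calc a⁻¹ * (H * a * H⁻¹) * (b⁻¹ * (H * b * H⁻¹))
          = a⁻¹ * ((H * a * H⁻¹) * b⁻¹) * (H * b * H⁻¹) := by group
        _ = a⁻¹ * b⁻¹ * (H * a * H⁻¹) * (B.zs k1 * (H * b * H⁻¹)) := by rw [hk1]; group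
        _ = _ := by rw [← z1]; group
    have e2 : (b * a)⁻¹ = B.zs k2 * (a * b)⁻¹ := by
      rw [hk2, mul_inv_rev, B.zs_inv]
    have z2 : B.zs k2 * (a * b)⁻¹ * (H * (a * b) * H⁻¹) = (a * b)⁻¹ * (H * (a * b) * H⁻¹) * B.zs k2 := by
      have := ((haX.mul hbX).inv.mul (hσ _ (haX.mul hbX))).zs_comm k2
      rw [this.eq]
      simp only [mul_assoc]
    obtain ⟨k, hk | hk⟩ := hd
    · have hab : a * b = cc * B.zs k := by rw [← hk]; group
      refine ⟨k + l * k + k2 + k1, ?_⟩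
      rw [e1, e2, z2, hab]
      have e3 : (cc * B.zs k)⁻¹ * (H * (cc * B.zs k) * H⁻¹) = p (m + m') * B.zs (k + l * k) := by
        have e4 : H * (cc * B.zs k) * H⁻¹ = H * cc * H⁻¹ * B.zs (l * k) := by
          rw [← hHz]; group
        rw [e4, mul_inv_rev, B.zs_inv, B.zs_add, hpc]
        have z3 := ((hpX (m + m')).zs_comm k).eq
        rw [hpc] at z3
        calc B.zs k * cc⁻¹ * (H * cc * H⁻¹ * B.zs (l * k)) = (B.zs k * (cc⁻¹ * (H * cc * H⁻¹))) * B.zs (l * k) := by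
              group
          _ = cc⁻¹ * (H * cc * H⁻¹) * B.zs k * B.zs (l * k) := by rw [z3]
          _ = _ := by group
      rw [e3]
      simp only [B.zs_add, mul_assoc]
    · have hab : a * b = cc * (B.t * B.zs k) := by rw [← hk]; group
      refine ⟨(m + m') + k + l * k + k2 + k1, ?_⟩
      rw [e1, e2, z2, hab]
      have e3 : (cc * (B.t * B.zs k))⁻¹ * (H * (cc * (B.t * B.zs k)) * H⁻¹) =
          p (m + m') * B.zs ((m + m') + k + l * k) := by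
        have ht : H * B.t = B.t * H := by rw [hH]; exact (B.t_h 1 l).symm.eq
        have e4 : H * (cc * (B.t * B.zs k)) * H⁻¹ = H * cc * H⁻¹ * (B.t * B.zs (l * k)) := by
          rw [← hHz]
          calc H * (cc * (B.t * B.zs k)) * H⁻¹ = H * cc * H⁻¹ * (H * B.t) * B.zs k * H⁻¹ := by group
            _ = _ := by rw [ht]; group
        rw [e4, mul_inv_rev, mul_inv_rev, B.zs_inv, B.t_inv, B.zs_add, B.zs_add]
        have z3 := ((hpX (m + m')).zs_comm k).eq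
        have t1 := htp (m + m')
        have e5 : B.t * p (m + m') * B.t = p (m + m') * B.zs (m + m') := by
          rw [t1, mul_assoc (p (m + m') * B.t), (B.t_zs (m + m')).symm.eq]
          calc p (m + m') * B.t * (B.t * B.zs (m + m')) = p (m + m') * (B.t * B.t) * B.zs (m + m') := by group
            _ = _ := by rw [B.tt, mul_one]
        calc B.zs k * B.t * cc⁻¹ * (H * cc * H⁻¹ * (B.t * B.zs (l * k)))
            = B.zs k * (B.t * p (m + m') * B.t) * B.zs (l * k) := by rw [hpc]; group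
          _ = (B.zs k * p (m + m')) * B.zs (m + m') * B.zs (l * k) := by rw [e5]; group
          _ = p (m + m') * (B.zs k * B.zs (m + m')) * B.zs (l * k) := by rw [← z3]; group
          _ = _ := by rw [← B.zs_add, add_comm k, B.zs_add]; group
      rw [e3]
      simp only [B.zs_add, mul_assoc]
  -- commutation
  have hcm : ∀ m m', ∃ k, p m * p m' = p m' * p m * B.zs k := fun m m' => IsX.comm hF hB (hpX m) (hpX m')
  choose β hβ using hcm
  have hzinj : ∀ {k k' : F}, B.zs k = B.zs k' → k = k' := by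
    intro k k' h
    rw [← v1_zs, ← v1_zs] at h
    exact (B.v1_inj h).2.1
  have hpz : ∀ m k, p m * B.zs k = B.zs k * p m := fun m k => ((hpX m).zs_comm k).eq
  have hβl : ∀ x y z, β (x + y) z = β x z + β y z := by
    intro x y z
    obtain ⟨k, hk⟩ := hpadd x y
    have e : p (x + y) = p x * p y * B.zs k := by rw [hk, mul_assoc, B.zs_zs, mul_one]
    apply hzinj
    have h1 := hβ (x + y) z
    have h2 : p (x + y) * p z = p z * p (x + y) * B.zs (β x z + β y z) := by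
      rw [e, B.zs_add]
      have a1 := hβ x z
      have a2 := hβ y z
      calc p x * p y * B.zs k * p z = p x * (p y * p z) * B.zs k := by
            rw [mul_assoc (p x * p y), ← hpz z k]; group
        _ = (p x * p z) * p y * B.zs (β y z) * B.zs k := by rw [a2]; group
        _ = p z * p x * (B.zs (β x z) * p y) * B.zs (β y z) * B.zs k := by rw [a1]; group
        _ = p z * p x * p y * B.zs (β x z) * B.zs (β y z) * B.zs k := by rw [← hpz y]; group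
        _ = p z * (p x * p y * B.zs k) * (B.zs (β x z) * B.zs (β y z)) := by
            have : B.zs (β x z) * B.zs (β y z) * B.zs k = B.zs k * (B.zs (β x z) * B.zs (β y z)) := by
              simp only [← B.zs_add]; congr 1; ring
            calc p z * p x * p y * B.zs (β x z) * B.zs (β y z) * B.zs k
                = p z * p x * p y * (B.zs (β x z) * B.zs (β y z) * B.zs k) := by group
              _ = _ := by rw [this]; group
    exact mul_left_cancel (h1.symm.trans h2)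
  have hβs : ∀ x y, β x y = β y x := by
    intro x y
    apply hzinj
    have h1 := hβ x y
    have h2 := hβ y x
    have h3 : p x * p y = p y * p x * B.zs (β y x) := by
      have : p y * p x * B.zs (β y x) = p x * p y * B.zs (β y x) * B.zs (β y x) := by rw [← h2]
      rw [mul_assoc (p x * p y), B.zs_zs, mul_one] at this
      exact this.symm
    exact mul_left_cancel (h1.symm.trans h3)
  have hβr : ∀ x y z, β x (y + z) = β x y + β x z := by
    intro x y z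
    rw [hβs, hβl, hβs y, hβs z]
  have hβh : ∀ k x y, k ≠ 0 → β (k * x) (k * y) = k * β x y := by
    intro k x y hk
    have h1 := hβ x y
    set H := B.h 1 (Units.mk0 k hk) with hH
    have e : ∀ m, H * p m * H⁻¹ = p (k * m) := fun m => by rw [hph, Units.val_mk0]
    have e2 : H * B.zs (β x y) * H⁻¹ = B.zs (k * β x y) := by rw [h1_zs, Units.val_mk0]
    have h2 : p (k * x) * p (k * y) = p (k * y) * p (k * x) * B.zs (k * β x y) := by
      rw [← e, ← e, ← e2]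
      calc H * p x * H⁻¹ * (H * p y * H⁻¹) = H * (p x * p y) * H⁻¹ := by group
        _ = _ := by rw [h1]; group
    exact hzinj (mul_left_cancel ((hβ _ _).symm.trans h2))
  have hβa : ∀ x, β x x = 0 := by
    intro x
    apply hzinj
    rw [B.zs_zero]
    exact (left_eq_mul.1 (hβ x x))
  have hβ0 := FieldAux.alt_zero hβl hβr hβh hβa
  have hpp : ∀ m m', Commute (p m) (p m') := by
    intro m m'
    have := hβ m m'
    rw [hβ0, B.zs_zero, mul_one] at this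
    exact this
  -- squares
  have hsq : ∀ m, ∃ k, p m * p m = B.zs k := fun m => IsX.sq hF hB (hpX m)
  choose f hf using hsq
  have hfh : ∀ k m, k ≠ 0 → f (k * m) = k * f m := by
    intro k m hk
    apply hzinj
    rw [← hf]
    have e : p (k * m) = B.h 1 (Units.mk0 k hk) * p m * (B.h 1 (Units.mk0 k hk))⁻¹ := by
      rw [hph, Units.val_mk0]
    have e2 : B.zs (k * f m) = B.h 1 (Units.mk0 k hk) * B.zs (f m) * (B.h 1 (Units.mk0 k hk))⁻¹ := by
      rw [h1_zs, Units.val_mk0]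
    rw [e, e2, ← hf]; group
  have hf1 : ∀ m, f m = f 1 * m := by
    intro m
    by_cases h : m = 0
    · rw [h, mul_zero]
      apply hzinj
      rw [← hf, hp0, B.zs_zero, one_mul]
    · have := hfh m 1 h
      rw [mul_one] at this
      rw [this, mul_comm]
  -- commutator with `X_a`
  have hxap : ∀ m u, ∃ s k r, (p m)⁻¹ * B.xa u * p m = B.xa u * B.v1 s k r := fun m u => (hpX m).xa u
  choose g1 g2 g3 hg using hxap
  have hgadd : ∀ m u u', g1 m (u + u') = g1 m u + g1 m u' ∧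
      g2 m (u + u') = g2 m u + u' * g1 m u + g2 m u' ∧
      g3 m (u + u') = g3 m u + u' ^ 2 * g1 m u + g3 m u' := by
    intro m u u'
    have h1 := hg m (u + u')
    have e : ∀ s k r, B.v1 s k r * B.xa u' = B.xa u' * B.v1 s (k + u' * s) (r + u' ^ 2 * s) := by
      intro s k r
      rw [B.xa_v1]
      congr 1
      rw [add_assoc, CharTwo.add_self_eq_zero, add_zero, add_assoc, CharTwo.add_self_eq_zero, add_zero]
    have h2 : (p m)⁻¹ * B.xa (u + u') * p m = B.xa (u + u') *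
        B.v1 (g1 m u + g1 m u') (g2 m u + u' * g1 m u + g2 m u') (g3 m u + u' ^ 2 * g1 m u + g3 m u') := by
      calc (p m)⁻¹ * B.xa (u + u') * p m = ((p m)⁻¹ * B.xa u * p m) * ((p m)⁻¹ * B.xa u' * p m) := by
            rw [B.xa_add]; group
        _ = B.xa u * (B.v1 (g1 m u) (g2 m u) (g3 m u) * B.xa u') * B.v1 (g1 m u') (g2 m u') (g3 m u') := by
            rw [hg, hg]; group
        _ = (B.xa u * B.xa u') * (B.v1 (g1 m u) (g2 m u + u' * g1 m u) (g3 m u + u' ^ 2 * g1 m u) *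
              B.v1 (g1 m u') (g2 m u') (g3 m u')) := by rw [e]; group
        _ = _ := by rw [B.v1_mul, B.xa_add]
    rw [h1] at h2
    exact B.v1_inj (mul_left_cancel h2)
  have hg00 : ∀ m, g1 m 0 = 0 ∧ g2 m 0 = 0 ∧ g3 m 0 = 0 := by
    intro m
    have h1 := hg m 0
    rw [B.xa_zero, one_mul] at h1
    have h2 : B.v1 (g1 m 0) (g2 m 0) (g3 m 0) = B.v1 0 0 0 := by
      rw [← h1, B.v1_zero]; group
    exact B.v1_inj h2
  have hg1 : ∀ m u, g1 m u = 0 := by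
    intro m u
    by_cases hu : u = 0
    · rw [hu]; exact (hg00 m).1
    · have h1 := (hgadd m u u).2.1
      rw [CharTwo.add_self_eq_zero, (hg00 m).2.1] at h1
      have h2 : u * g1 m u = 0 := by
        have h3 : g2 m u + u * g1 m u + g2 m u = u * g1 m u + (g2 m u + g2 m u) := by ring
        rw [h3, CharTwo.add_self_eq_zero, add_zero] at h1
        exact h1.symm
      exact (mul_eq_zero.1 h2).resolve_left hu
  have hgh : ∀ m (α : Fˣ) u, g2 m (α * u) = g2 m u ∧ g3 m (α * u) = α * g3 m u := by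
    intro m α u
    have h1 := hg m u
    have hc := ((hpX m).comm_h α)
    have h2 : (p m)⁻¹ * B.xa (α * u) * p m = B.xa (α * u) * B.v1 0 (g2 m u) (α * g3 m u) := by
      have e1 : B.xa (α * u) = B.h α α⁻¹ * B.xa u * (B.h α α⁻¹)⁻¹ := by rw [B.h_xa]; group
      have e2 : B.v1 0 (g2 m u) (α * g3 m u) = B.h α α⁻¹ * B.v1 0 (g2 m u) (g3 m u) * (B.h α α⁻¹)⁻¹ := by
        rw [B.h_v1, mul_inv_cancel_right]
        congr 1
        · rw [mul_zero]
        · rw [Units.mul_inv, one_mul]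
        · rw [Units.val_inv_eq_inv_val]; field_simp
      rw [e2, e1]
      set h := B.h α α⁻¹
      have h3 : (p m)⁻¹ * h = h * (p m)⁻¹ := hc.inv_left.eq
      have h4 : h⁻¹ * p m = p m * h⁻¹ := hc.symm.inv_left.eq
      calc (p m)⁻¹ * (h * B.xa u * h⁻¹) * p m = ((p m)⁻¹ * h) * B.xa u * (h⁻¹ * p m) := by group
        _ = h * ((p m)⁻¹ * B.xa u * p m) * h⁻¹ := by rw [h3, h4]; group
        _ = h * (B.xa u * B.v1 0 (g2 m u) (g3 m u)) * h⁻¹ := by rw [h1, hg1]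
        _ = _ := by group
    rw [hg] at h2
    have h3 := B.v1_inj (mul_left_cancel h2)
    exact ⟨h3.2.1, h3.2.2⟩
  have hg2 : ∀ m u, g2 m u = 0 := by
    intro m u
    refine FieldAux.const_zero hF (f := g2 m) ?_ ?_ u
    · intro x y
      have := (hgadd m x y).2.1
      rw [hg1, mul_zero, add_zero] at this
      exact this
    · intro x y hx hy
      have h1 := (hgh m (Units.mk0 x hx) 1).1
      have h2 := (hgh m (Units.mk0 y hy) 1).1
      rw [Units.val_mk0, mul_one] at h1 h2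
      rw [h1, h2]
  have hg3 : ∀ m u, g3 m u = u * g3 m 1 := by
    intro m u
    by_cases hu : u = 0
    · rw [hu, (hg00 m).2.2, zero_mul]
    · have := (hgh m (Units.mk0 u hu) 1).2
      rw [Units.val_mk0, mul_one] at this
      exact this
  have hg3h : ∀ k m, k ≠ 0 → g3 (k * m) 1 = k * g3 m 1 := by
    intro k m hk
    set H := B.h 1 (Units.mk0 k hk) with hH
    have e : p (k * m) = H * p m * H⁻¹ := by rw [hph, Units.val_mk0]
    have e1 : B.xa 1 = H * B.xa 1 * H⁻¹ := by rw [hH, B.h_xa]; simp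
    have e2 : H * B.v1 0 0 (g3 m 1) * H⁻¹ = B.v1 0 0 (k * g3 m 1) := by
      rw [h1_v1, Units.val_mk0, mul_zero]
    have h1 := hg m 1
    rw [hg1, hg2] at h1
    have h2 : (p (k * m))⁻¹ * B.xa 1 * p (k * m) = B.xa 1 * B.v1 0 0 (k * g3 m 1) := by
      rw [e, ← e2]
      calc (H * p m * H⁻¹)⁻¹ * B.xa 1 * (H * p m * H⁻¹)
          = (H * p m * H⁻¹)⁻¹ * (H * B.xa 1 * H⁻¹) * (H * p m * H⁻¹) := by rw [← e1]
        _ = H * ((p m)⁻¹ * B.xa 1 * p m) * H⁻¹ := by group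
        _ = (H * B.xa 1 * H⁻¹) * (H * B.v1 0 0 (g3 m 1) * H⁻¹) := by rw [h1]; group
        _ = _ := by rw [← e1]
    rw [hg] at h2
    exact (B.v1_inj (mul_left_cancel h2)).2.2
  have hg30 : g3 0 1 = 0 := by
    have h1 := hg 0 1
    rw [hp0, inv_one, one_mul, mul_one] at h1
    have h2 : B.v1 (g1 0 1) (g2 0 1) (g3 0 1) = B.v1 0 0 0 := by
      rw [B.v1_zero]; exact (left_eq_mul.1 h1)
    exact (B.v1_inj h2).2.2
  have hg3' : ∀ m u, g3 m u = g3 1 1 * u * m := by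
    intro m u
    rw [hg3]
    by_cases h : m = 0
    · rw [h, hg30, mul_zero, mul_zero]
    · have := hg3h m 1 h
      rw [mul_one] at this
      rw [this]; ring
  refine ⟨{ p := p, e := g3 1 1, c := f 1, p_zero := hp0, t_p := htp, p_xb := ?_, p_zs := ?_, p_zl := ?_,
            p_p := hpp, p_add := hpadd, p_sq := ?_, xa_p := ?_, h_p := ?_ }⟩
  · intro m s; rw [← v1_xb]; exact (hpX m).cent _ _ _
  · intro m s; rw [← v1_zs]; exact (hpX m).cent _ _ _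
  · intro m s; rw [← v1_zl]; exact (hpX m).cent _ _ _
  · intro m; rw [hf, hf1]
  · intro u m
    have h1 := hg m u
    rw [hg1, hg2, hg3', v1_zl] at h1
    calc B.xa u * p m = p m * ((p m)⁻¹ * B.xa u * p m) := by group
      _ = _ := by rw [h1]; group
  · intro α β m
    have e : B.h α β = B.h 1 (α * β) * B.h α α⁻¹ := by
      rw [← B.h_mul, one_mul, mul_comm α β, mul_inv_cancel_right]
    have h1 := ((hpX m).comm_h α).eq
    have h2 := hph (α * β) m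
    rw [Units.val_mul] at h2
    rw [← h2, e]
    calc B.h 1 (α * β) * B.h α α⁻¹ * p m = B.h 1 (α * β) * (B.h α α⁻¹ * p m) := by group
      _ = _ := by rw [← h1]; group

end Base
end Cfsg.Agent.StdSpFour
end

-- part: StdSpFour/EnvFacts
section
/-!
`Env B A` gives `PFacts B (P1 B) (P1 (swap B)) A`, hence the short layer when `t ~ t z_s` and the long layer when
`t ~ t z_l`.
-/
set_option autoImplicit false
set_option linter.unusedSectionVars false

open Subgroup Pointwise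
open scoped commutatorElement

namespace Cfsg.Agent.StdSpFour

open Swap Env EnvSwap

namespace EnvFacts

variable {F G : Type*} [Field F] [CharP F 2] [Finite F] [Group G] {B : Base F G} {A : Subgroup G}

theorem isU_of_mul_left {x y : G} (hx : IsU B x) (h : IsU B (x * y)) : IsU B y := by
  have h1 := hx.inv.mul h
  rwa [inv_mul_cancel_left] at h1

theorem isU_of_mul_right {x y : G} (hy : IsU B y) (h : IsU B (x * y)) : IsU B x := by
  have h1 := h.mul hy.inv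
  rwa [mul_inv_cancel_right] at h1

theorem IsU.zs (w : F) : IsU B (B.zs w) := by rw [← Base.v1_zs]; exact IsU.v1 _ _ _
theorem IsU.zl (w : F) : IsU B (B.zl w) := by rw [← Base.v1_zl]; exact IsU.v1 _ _ _
theorem IsU.xb (w : F) : IsU B (B.xb w) := by rw [← Base.v1_xb]; exact IsU.v1 _ _ _

theorem zz_v1 (w w' : F) : B.zs w * B.zl w' = B.v1 0 w w' := by
  rw [Base.v1, B.xb_zero, one_mul]

variable (hE : Env B A)
include hE

theorem not_isU_xmb {u : F} (hu : u ≠ 0) : ¬ IsU B (B.nb * B.xb u * B.nb⁻¹) := by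
  intro h
  exact (env_swap hE).not_isU_xma hu (isU_swap.2 h)

/-- Central elements under a Bruhat word. -/
theorem word_eq {g u u' n : G} {α β : Fˣ} (hu : IsU B u) (hu' : IsU B u') (hg : g = u * B.h α β * n * u') {w w' : F}
    (hc : Commute g (B.zs w * B.zl w')) :
    n * (B.zs w * B.zl w') * n⁻¹ =
      B.zs ((((α * β)⁻¹ : Fˣ) : F) * w) * B.zl ((((α ^ 2 * β)⁻¹ : Fˣ) : F) * w') := by
  have h1 : (B.h α β)⁻¹ * (B.zs w * B.zl w') * B.h α β =
      B.zs ((((α * β)⁻¹ : Fˣ) : F) * w) * B.zl ((((α ^ 2 * β)⁻¹ : Fˣ) : F) * w') := by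
    rw [zz_v1, B.h_inv, B.h_v1, mul_assoc, ← B.h_mul, inv_mul_cancel, inv_mul_cancel, B.h_one, mul_one, mul_zero,
      zz_v1]
    congr 1
    · push_cast; rw [← mul_inv]
    · push_cast; rw [inv_pow, ← mul_inv]
  have hu1 : Commute u (B.zs w * B.zl w') := by rw [zz_v1]; exact hu.comm_z w w'
  have hu2 : Commute u' (B.zs w * B.zl w') := by rw [zz_v1]; exact hu'.comm_z w w'
  rw [← h1]
  have h2 : u' * (B.zs w * B.zl w') * u'⁻¹ = B.zs w * B.zl w' := by rw [hu2.eq]; group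
  have h3 : u⁻¹ * (B.zs w * B.zl w') * u = B.zs w * B.zl w' := by rw [mul_assoc, ← hu1.eq]; group
  have h4 : g * (B.zs w * B.zl w') * g⁻¹ = B.zs w * B.zl w' := by rw [hc.eq]; group
  calc n * (B.zs w * B.zl w') * n⁻¹
      = (B.h α β)⁻¹ * (u⁻¹ * (u * B.h α β * n * u' * (u'⁻¹ * (B.zs w * B.zl w') * u') *
        (u * B.h α β * n * u')⁻¹) * u) * B.h α β := by group
    _ = (B.h α β)⁻¹ * (u⁻¹ * (g * (B.zs w * B.zl w') * g⁻¹) * u) * B.h α β := by
        rw [← hg, mul_assoc u'⁻¹, ← hu2.eq, inv_mul_cancel_left]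
    _ = _ := by rw [h4, h3]

/-- `C_A(z_s(w)) ≤ P₁` -/
theorem cent_zs {g : G} (hg : g ∈ A) {w : F} (hw : w ≠ 0) (hc : Commute g (B.zs w)) : g ∈ P1 B := by
  obtain ⟨u, hu, α, β, n, hn, u', hu', h⟩ := hE.bruhat g hg
  have hc' : Commute g (B.zs w * B.zl 0) := by rw [B.zl_zero, mul_one]; exact hc
  have h1 := word_eq hE hu hu' h hc'
  rw [mul_zero, B.zl_zero, mul_one, mul_one] at h1
  set w1 : F := (((α * β)⁻¹ : Fˣ) : F) * w with hw1
  have hnb : B.nb * B.zs w * B.nb⁻¹ = B.xa w := by rw [B.nb_zs]; group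
  have hna : B.na * B.zs w * B.na⁻¹ = B.zs w := by rw [B.na_zs]; group
  have hxz : ∀ {v : F}, B.xa w = B.zs v → False := by
    intro v h2
    have h3 : B.xa w * B.v1 0 0 0 = B.xa 0 * B.v1 0 v 0 := by
      rw [B.v1_zero, mul_one, B.xa_zero, one_mul, Base.v1_zs, h2]
    exact hw (nf_inj h3).1
  have hxm : ∀ {v : F}, B.na * B.xa w * B.na⁻¹ = B.zs v → False := by
    intro v h2
    exact hE.not_isU_xma hw (by rw [h2]; exact IsU.zs v)
  have key : w = w1 → B.h α β ∈ P1 B := by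
    intro h2
    have h3 : (((α * β)⁻¹ : Fˣ) : F) = 1 := mul_right_cancel₀ hw (by rw [one_mul]; exact h2.symm)
    have h4 : (α * β)⁻¹ = 1 := Units.ext (by rw [h3, Units.val_one])
    have h5 : β = α⁻¹ := by
      rw [inv_eq_one] at h4
      exact eq_inv_of_mul_eq_one_right h4
    rw [h5]
    exact L1_le (hE.tor α)
  have hwv : B.zs w = B.zs w1 → w = w1 := by
    intro h2
    rw [← Base.v1_zs, ← Base.v1_zs] at h2
    exact (B.v1_inj h2).2.1
  rcases hn with rfl | rfl | rfl | rfl | rfl | rfl | rfl | rfl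
  · rw [one_mul, inv_one, mul_one] at h1
    rw [h]
    exact mul_mem (mul_mem (mul_mem (isU_P1 hu) (key (hwv h1))) (one_mem _)) (isU_P1 hu')
  · rw [hna] at h1
    rw [h]
    exact mul_mem (mul_mem (mul_mem (isU_P1 hu) (key (hwv h1))) na_P1) (isU_P1 hu')
  · rw [hnb] at h1
    exact (hxz h1).elim
  · rw [show B.na * B.nb * B.zs w * (B.na * B.nb)⁻¹ = B.na * (B.nb * B.zs w * B.nb⁻¹) * B.na⁻¹ by group, hnb] at h1
    exact (hxm h1).elim
  · rw [show B.nb * B.na * B.zs w * (B.nb * B.na)⁻¹ = B.nb * (B.na * B.zs w * B.na⁻¹) * B.nb⁻¹ by group, hna,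
      hnb] at h1
    exact (hxz h1).elim
  · rw [show B.na * B.nb * B.na * B.zs w * (B.na * B.nb * B.na)⁻¹ =
      B.na * (B.nb * (B.na * B.zs w * B.na⁻¹) * B.nb⁻¹) * B.na⁻¹ by group, hna, hnb] at h1
    exact (hxm h1).elim
  · rw [show B.nb * B.na * B.nb * B.zs w * (B.nb * B.na * B.nb)⁻¹ =
      B.nb * (B.na * (B.nb * B.zs w * B.nb⁻¹) * B.na⁻¹) * B.nb⁻¹ by group, hnb] at h1
    exfalso
    apply hE.not_isU_xma hw
    have h2 : B.na * B.xa w * B.na⁻¹ = B.xa w1 := by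
      calc B.na * B.xa w * B.na⁻¹ = B.nb⁻¹ * (B.nb * (B.na * B.xa w * B.na⁻¹) * B.nb⁻¹) * B.nb := by group
        _ = B.nb⁻¹ * B.zs w1 * B.nb := by rw [h1]
        _ = B.nb * B.zs w1 * B.nb⁻¹ := by rw [hE.nb_inv]
        _ = B.xa w1 := by rw [B.nb_zs]; group
    rw [h2]; exact IsU.xa _
  · rw [show B.na * B.nb * B.na * B.nb * B.zs w * (B.na * B.nb * B.na * B.nb)⁻¹ =
      B.na * (B.nb * (B.na * (B.nb * B.zs w * B.nb⁻¹) * B.na⁻¹) * B.nb⁻¹) * B.na⁻¹ by group, hnb] at h1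
    exfalso
    apply hE.not_isU_xma hw
    have h2 : B.na * B.xa w * B.na⁻¹ = B.xa w1 := by
      calc B.na * B.xa w * B.na⁻¹ = B.nb⁻¹ * (B.na⁻¹ * (B.na * (B.nb * (B.na * B.xa w * B.na⁻¹) * B.nb⁻¹) * B.na⁻¹)
            * B.na) * B.nb := by group
        _ = B.nb⁻¹ * (B.na⁻¹ * B.zs w1 * B.na) * B.nb := by rw [h1]
        _ = B.nb * (B.na * B.zs w1 * B.na⁻¹) * B.nb⁻¹ := by rw [hE.nb_inv, hE.na_inv]
        _ = B.nb * B.zs w1 * B.nb⁻¹ := by rw [B.na_zs]; group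
        _ = B.xa w1 := by rw [B.nb_zs]; group
    rw [h2]; exact IsU.xa _

/-- `C_A(z_s(w) z_l(w')) ≤ U` for `w, w' ≠ 0` -/
theorem cent_mixed (hF : 4 ≤ Nat.card F) {g : G} (hg : g ∈ A) {w w' : F} (hw : w ≠ 0) (hw' : w' ≠ 0)
    (hc : Commute g (B.zs w * B.zl w')) : IsU B g := by
  obtain ⟨u, hu, α, β, n, hn, u', hu', h⟩ := hE.bruhat g hg
  have h1 := word_eq hE hu hu' h hc
  set w1 : F := (((α * β)⁻¹ : Fˣ) : F) * w with hw1
  set w2 : F := (((α ^ 2 * β)⁻¹ : Fˣ) : F) * w' with hw2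
  have hw20 : w2 ≠ 0 := mul_ne_zero (Units.ne_zero _) hw'
  have cs : ∀ x : F, B.nb * B.zs x * B.nb⁻¹ = B.xa x := fun x => by rw [B.nb_zs]; group
  have cl : ∀ x : F, B.nb * B.zl x * B.nb⁻¹ = B.zl x := fun x => by rw [B.nb_zl]; group
  have as : ∀ x : F, B.na * B.zs x * B.na⁻¹ = B.zs x := fun x => by rw [B.na_zs]; group
  have al : ∀ x : F, B.na * B.zl x * B.na⁻¹ = B.xb x := fun x => by rw [B.na_zl]; group
  have ab : ∀ x : F, B.na * B.xb x * B.na⁻¹ = B.zl x := fun x => by rw [B.na_xb]; group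
  have cm : ∀ n x y : G, n * (x * y) * n⁻¹ = (n * x * n⁻¹) * (n * y * n⁻¹) := fun n x y => by group
  have cjj : ∀ n n' x : G, (n * n') * x * (n * n')⁻¹ = n * (n' * x * n'⁻¹) * n⁻¹ := fun n n' x => by group
  have a1 : B.na * (B.zs w * B.zl w') * B.na⁻¹ = B.zs w * B.xb w' := by rw [cm, as, al]
  have b1 : B.nb * (B.zs w * B.zl w') * B.nb⁻¹ = B.xa w * B.zl w' := by rw [cm, cs, cl]
  have ba : B.nb * (B.zs w * B.xb w') * B.nb⁻¹ = B.xa w * (B.nb * B.xb w' * B.nb⁻¹) := by rw [cm, cs]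
  have ab' : B.na * (B.xa w * B.zl w') * B.na⁻¹ = B.na * B.xa w * B.na⁻¹ * B.xb w' := by rw [cm, al]
  have hUz : IsU B (B.zs w1 * B.zl w2) := (IsU.zs _).mul (IsU.zl _)
  -- the inverse actions
  have backa : ∀ {x : G}, B.na * x * B.na⁻¹ = B.zs w1 * B.zl w2 → x = B.zs w1 * B.xb w2 := by
    intro x h2
    calc x = B.na⁻¹ * (B.na * x * B.na⁻¹) * B.na := by group
      _ = B.na * (B.zs w1 * B.zl w2) * B.na⁻¹ := by rw [h2, hE.na_inv]
      _ = _ := by rw [cm, as, al]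
  have backb : ∀ {x : G}, B.nb * x * B.nb⁻¹ = B.zs w1 * B.zl w2 → x = B.xa w1 * B.zl w2 := by
    intro x h2
    calc x = B.nb⁻¹ * (B.nb * x * B.nb⁻¹) * B.nb := by group
      _ = B.nb * (B.zs w1 * B.zl w2) * B.nb⁻¹ := by rw [h2, hE.nb_inv]
      _ = _ := by rw [cm, cs, cl]
  rcases hn with rfl | rfl | rfl | rfl | rfl | rfl | rfl | rfl
  · rw [one_mul, inv_one, mul_one, zz_v1, zz_v1] at h1
    obtain ⟨-, h2, h3⟩ := B.v1_inj h1
    have h4 : (α * β)⁻¹ = 1 := Units.ext (mul_right_cancel₀ hw (by rw [← hw1, Units.val_one, one_mul, h2]))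
    have h5 : (α ^ 2 * β)⁻¹ = 1 := Units.ext (mul_right_cancel₀ hw' (by rw [← hw2, Units.val_one, one_mul, h3]))
    rw [inv_eq_one] at h4 h5
    have h6 : α = 1 := by
      have : α * (α * β) = 1 := by rw [← h5, sq, mul_assoc]
      rwa [h4, mul_one] at this
    have h7 : β = 1 := by rwa [h6, one_mul] at h4
    rw [h, h6, h7, B.h_one, mul_one, mul_one]
    exact hu.mul hu'
  · exfalso
    rw [cm, as, al, zz_v1] at h1
    have h2 : B.v1 w' w 0 = B.v1 0 w1 w2 := by rw [← h1, Base.v1, B.zl_zero, mul_one, (B.xb_zs w' w).eq]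
    exact hw' (B.v1_inj h2).1
  · exfalso
    rw [cm, cs, cl, zz_v1] at h1
    have h2 : B.xa w * B.v1 0 0 w' = B.xa 0 * B.v1 0 w1 w2 := by rw [Base.v1_zl, h1, B.xa_zero, one_mul]
    exact hw (nf_inj h2).1
  · exfalso
    rw [cjj, b1, ab'] at h1
    apply hE.not_isU_xma hw
    apply isU_of_mul_right (IsU.xb w')
    rw [h1]; exact hUz
  · exfalso
    rw [cjj, a1, ba] at h1
    apply not_isU_xmb hE hw'
    apply isU_of_mul_left (IsU.xa w)
    rw [h1]; exact hUz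
  · exfalso
    rw [cjj, cjj, a1, ba] at h1
    have h2 := backa h1
    apply not_isU_xmb hE hw'
    apply isU_of_mul_left (IsU.xa w)
    rw [h2]; exact (IsU.zs _).mul (IsU.xb _)
  · exfalso
    rw [cjj, cjj, b1, ab'] at h1
    have h2 := backb h1
    apply hE.not_isU_xma hw
    apply isU_of_mul_right (IsU.xb w')
    rw [h2]; exact (IsU.xa _).mul (IsU.zl _)
  · exfalso
    rw [cjj, cjj, cjj, b1, ab'] at h1
    have h2 := backa h1
    -- `(na xa w na⁻¹) xb w' = xa w1 (nb⁻¹ xb w2 nb)`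
    have h3 : B.na * B.xa w * B.na⁻¹ * B.xb w' = B.xa w1 * (B.nb * B.xb w2 * B.nb⁻¹) := by
      calc B.na * B.xa w * B.na⁻¹ * B.xb w'
          = B.nb⁻¹ * (B.nb * (B.na * B.xa w * B.na⁻¹ * B.xb w') * B.nb⁻¹) * B.nb := by group
        _ = B.nb * (B.zs w1 * B.xb w2) * B.nb⁻¹ := by rw [h2, hE.nb_inv]
        _ = _ := by rw [cm, cs]
    have := Fintype.ofFinite F
    rw [Nat.card_eq_fintype_card] at hF
    obtain ⟨γ, hγ⟩ := Base.exists_unit_ne hF
    -- conjugate by `h(1,γ)`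
    have c1 : B.h 1 γ * (B.na * B.xa w * B.na⁻¹) * (B.h 1 γ)⁻¹ = B.na * B.xa w * B.na⁻¹ := by
      rw [hE.conj_xma, inv_one, Units.val_one, one_mul]
    have c2 : B.h 1 γ * B.xb w' * (B.h 1 γ)⁻¹ = B.xb (γ * w') := by rw [B.h_xb]; group
    have c3 : B.h 1 γ * B.xa w1 * (B.h 1 γ)⁻¹ = B.xa w1 := by rw [B.h_xa, Units.val_one, one_mul]; group
    have c4 : B.h 1 γ * (B.nb * B.xb w2 * B.nb⁻¹) * (B.h 1 γ)⁻¹ =
        B.nb * B.xb (((γ⁻¹ : Fˣ) : F) * w2) * B.nb⁻¹ := by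
      have h4 := (env_swap hE).conj_xma γ 1 w2
      change B.h (rtU 1) γ * (B.nb * B.xb w2 * B.nb⁻¹) * (B.h (rtU 1) γ)⁻¹ =
        B.nb * B.xb (((γ⁻¹ : Fˣ) : F) * w2) * B.nb⁻¹ at h4
      rwa [map_one] at h4
    have h5 : B.na * B.xa w * B.na⁻¹ * B.xb (γ * w') =
        B.xa w1 * (B.nb * B.xb (((γ⁻¹ : Fˣ) : F) * w2) * B.nb⁻¹) := by
      have h6 : B.h 1 γ * (B.na * B.xa w * B.na⁻¹ * B.xb w') * (B.h 1 γ)⁻¹ =
        B.h 1 γ * (B.xa w1 * (B.nb * B.xb w2 * B.nb⁻¹)) * (B.h 1 γ)⁻¹ := by rw [h3]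
      rwa [cm _ (B.na * B.xa w * B.na⁻¹) (B.xb w'), cm _ (B.xa w1) (B.nb * B.xb w2 * B.nb⁻¹), c1, c2, c3, c4] at h6
    apply not_isU_xmb hE (u := w2 + ((γ⁻¹ : Fˣ) : F) * w2)
    · intro h6
      have h7 : w2 = ((γ⁻¹ : Fˣ) : F) * w2 := FieldAux.eq_of_add_eq_zero h6
      have h8 : γ⁻¹ = 1 := Units.ext (mul_right_cancel₀ hw20 (by rw [Units.val_one, one_mul, ← h7]))
      exact hγ (inv_eq_one.1 h8)
    · have h9 : B.nb * B.xb (w2 + ((γ⁻¹ : Fˣ) : F) * w2) * B.nb⁻¹ = B.xb w' * B.xb (γ * w') := by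
        have h10 : (B.na * B.xa w * B.na⁻¹ * B.xb w')⁻¹ * (B.na * B.xa w * B.na⁻¹ * B.xb (γ * w')) =
          (B.xa w1 * (B.nb * B.xb w2 * B.nb⁻¹))⁻¹ *
            (B.xa w1 * (B.nb * B.xb (((γ⁻¹ : Fˣ) : F) * w2) * B.nb⁻¹)) := by rw [h3, h5]
        have h11 : (B.na * B.xa w * B.na⁻¹ * B.xb w')⁻¹ * (B.na * B.xa w * B.na⁻¹ * B.xb (γ * w')) =
          B.xb w' * B.xb (γ * w') := by
            rw [mul_inv_rev, B.xb_inv]; group
        have h12 : (B.xa w1 * (B.nb * B.xb w2 * B.nb⁻¹))⁻¹ *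
            (B.xa w1 * (B.nb * B.xb (((γ⁻¹ : Fˣ) : F) * w2) * B.nb⁻¹)) =
            B.nb * B.xb (w2 + ((γ⁻¹ : Fˣ) : F) * w2) * B.nb⁻¹ := by
            rw [B.xb_add, mul_inv_rev, mul_inv_rev, mul_inv_rev, B.xb_inv]; group
        rw [← h11, h10, h12]
      rw [h9]
      exact (IsU.xb _).mul (IsU.xb _)

omit hE in
/-- commutators of elements of `U` lie in `Z` -/
theorem comm_isU {x y : G} (hx : IsU B x) (hy : IsU B y) : ∃ m r, ⁅x, y⁆ = B.v1 0 m r := by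
  obtain ⟨u, s, m, r, rfl⟩ := hx
  obtain ⟨u', s', m', r', rfl⟩ := hy
  have h1 : B.xa u * B.v1 s m r * (B.xa u' * B.v1 s' m' r') =
      B.xa (u + u') * B.v1 (s + s') (m + u' * s + m') (r + u' ^ 2 * s + r') := by
    rw [B.xa_add, ← B.v1_mul]
    calc B.xa u * B.v1 s m r * (B.xa u' * B.v1 s' m' r')
        = B.xa u * (B.v1 s m r * B.xa u') * B.v1 s' m' r' := by group
      _ = _ := by rw [v1_xa]; group
  have h2 : B.xa u' * B.v1 s' m' r' * (B.xa u * B.v1 s m r) =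
      B.xa (u + u') * B.v1 (s + s') (m' + u * s' + m) (r' + u ^ 2 * s' + r) := by
    rw [add_comm u u', add_comm s s', B.xa_add, ← B.v1_mul]
    calc B.xa u' * B.v1 s' m' r' * (B.xa u * B.v1 s m r)
        = B.xa u' * (B.v1 s' m' r' * B.xa u) * B.v1 s m r := by group
      _ = _ := by rw [v1_xa]; group
  refine ⟨(m' + u * s' + m) + (m + u' * s + m'), (r' + u ^ 2 * s' + r) + (r + u' ^ 2 * s + r'), ?_⟩
  set M1 := m + u' * s + m'
  set M2 := m' + u * s' + m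
  set R1 := r + u' ^ 2 * s + r'
  set R2 := r' + u ^ 2 * s' + r
  have h3 : B.xa u * B.v1 s m r * (B.xa u' * B.v1 s' m' r') =
      B.xa u' * B.v1 s' m' r' * (B.xa u * B.v1 s m r) * B.v1 0 (M2 + M1) (R2 + R1) := by
    rw [h1, h2, mul_assoc, B.v1_mul, add_zero, ← add_assoc, CharTwo.add_self_eq_zero, zero_add, ← add_assoc,
      CharTwo.add_self_eq_zero, zero_add]
  have h4 : Commute (B.xa u * B.v1 s m r) (B.v1 0 (M2 + M1) (R2 + R1)) := IsU.comm_z ⟨u, s, m, r, rfl⟩ _ _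
  have h5 : Commute (B.xa u' * B.v1 s' m' r') (B.v1 0 (M2 + M1) (R2 + R1)) := IsU.comm_z ⟨u', s', m', r', rfl⟩ _ _
  rw [commutatorElement_def, h3]
  have h6 : Commute (B.v1 0 (M2 + M1) (R2 + R1)) (B.xa u * B.v1 s m r)⁻¹ := h4.symm.inv_right
  have h7 : Commute (B.v1 0 (M2 + M1) (R2 + R1)) (B.xa u' * B.v1 s' m' r')⁻¹ := h5.symm.inv_right
  rw [mul_assoc _ (B.v1 0 (M2 + M1) (R2 + R1)), h6.eq, mul_assoc, mul_assoc _ (B.v1 0 (M2 + M1) (R2 + R1)), h7.eq]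
  group

omit hE in
/-- a perfect subgroup of `U` is trivial -/
theorem perf_isU {Q : Subgroup G} (hQ : ⁅Q, Q⁆ = Q) (hU : ∀ x ∈ Q, IsU B x) : Q = ⊥ := by
  let Z : Subgroup G :=
    { carrier := {x | ∃ m r, x = B.v1 0 m r}
      mul_mem' := by
        rintro _ _ ⟨m, r, rfl⟩ ⟨m', r', rfl⟩
        exact ⟨m + m', r + r', by rw [B.v1_mul, add_zero]⟩
      one_mem' := ⟨0, 0, by rw [B.v1_zero]⟩
      inv_mem' := by
        rintro _ ⟨m, r, rfl⟩
        exact ⟨m, r, B.v1_inv _ _ _⟩ }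
  have h1 : Q ≤ Z := by
    rw [← hQ, commutator_le]
    intro x hx y hy
    exact comm_isU (hU x hx) (hU y hy)
  have h2 : Q ≤ ⊥ := by
    rw [← hQ, commutator_le]
    intro x hx y hy
    obtain ⟨m, r, rfl⟩ := h1 hx
    obtain ⟨m', r', rfl⟩ := h1 hy
    rw [mem_bot, commutatorElement_eq_one_iff_commute]
    exact B.v1_comm _ _ _ _ _ _
  exact le_bot_iff.1 h2

theorem inv_v1 (s m r : F) (h : B.v1 s m r ≠ 1) :
    ∃ a ∈ A, ∃ w w', (w ≠ 0 ∨ w' ≠ 0) ∧ a⁻¹ * B.v1 s m r * a = B.zs w * B.zl w' := by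
  by_cases hs : s = 0
  · refine ⟨1, one_mem _, m, r, ?_, ?_⟩
    · by_contra h1
      push Not at h1
      apply h
      rw [hs, h1.1, h1.2, B.v1_zero]
    · rw [hs, zz_v1]; group
  · obtain ⟨v, hv⟩ := FieldAux.exists_sq (r * s⁻¹)
    have h1 : v ^ 2 * s = r := by rw [hv, inv_mul_cancel_right₀ hs]
    refine ⟨(B.na * B.xa v)⁻¹, inv_mem (mul_mem hE.na_mem (hE.xa_mem v)), m + v * s, s, Or.inr hs, ?_⟩
    have h2 : B.xa v * B.v1 s m r * (B.xa v)⁻¹ = B.v1 s (m + v * s) 0 := by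
      rw [B.xa_v1, h1, CharTwo.add_self_eq_zero]; group
    have h3 : B.na * B.v1 s (m + v * s) 0 * B.na⁻¹ = B.v1 0 (m + v * s) s := by
      rw [B.na_v1]; group
    rw [zz_v1, ← h3, ← h2]
    group

theorem inv_fact (x : G) (hx : x ∈ A) (hxx : x * x = 1) (hx1 : x ≠ 1) :
    ∃ a ∈ A, ∃ w w', (w ≠ 0 ∨ w' ≠ 0) ∧ a⁻¹ * x * a = B.zs w * B.zl w' := by
  obtain ⟨a, ha, u, s, m, r, h⟩ := hE.conjU x hx hxx
  have hne : B.xa u * B.v1 s m r ≠ 1 := by
    rw [← h]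
    intro h1
    apply hx1
    calc x = a * (a⁻¹ * x * a) * a⁻¹ := by group
      _ = 1 := by rw [h1]; group
  have hsq : B.xa u * B.v1 s m r * (B.xa u * B.v1 s m r) = 1 := by
    rw [← h]
    calc a⁻¹ * x * a * (a⁻¹ * x * a) = a⁻¹ * (x * x) * a := by group
      _ = 1 := by rw [hxx]; group
  have hsq' : B.xa u * B.v1 s m r * (B.xa u * B.v1 s m r) = B.xa 0 * B.v1 0 (u * s) (u ^ 2 * s) := by
    calc B.xa u * B.v1 s m r * (B.xa u * B.v1 s m r) = B.xa u * (B.v1 s m r * B.xa u) * B.v1 s m r := by group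
      _ = (B.xa u * B.xa u) * (B.v1 s (m + u * s) (r + u ^ 2 * s) * B.v1 s m r) := by rw [v1_xa]; group
      _ = _ := by
        rw [B.xa_xa, B.v1_mul, B.xa_zero]
        congr 2
        · exact CharTwo.add_self_eq_zero s
        · rw [add_comm m, add_assoc, CharTwo.add_self_eq_zero, add_zero]
        · rw [add_comm r, add_assoc, CharTwo.add_self_eq_zero, add_zero]
  have hus : u * s = 0 := by
    rw [hsq', B.xa_zero, one_mul, ← B.v1_zero] at hsq
    exact (B.v1_inj hsq).2.1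
  have fin : ∀ y : G, y = a⁻¹ * x * a → (∃ a' ∈ A, ∃ w w', (w ≠ 0 ∨ w' ≠ 0) ∧ a'⁻¹ * y * a' = B.zs w * B.zl w') →
      ∃ a ∈ A, ∃ w w', (w ≠ 0 ∨ w' ≠ 0) ∧ a⁻¹ * x * a = B.zs w * B.zl w' := by
    rintro _ rfl ⟨a', ha', w, w', hww, h1⟩
    exact ⟨a * a', mul_mem ha ha', w, w', hww, by rw [← h1]; group⟩
  rcases mul_eq_zero.1 hus with hu | hs
  · rw [hu, B.xa_zero, one_mul] at h hne
    exact fin _ h.symm (inv_v1 hE s m r hne)
  · rw [hs] at h hne
    -- swap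
    have e : B.xa u * B.v1 0 m r = (swap B).v1 (u ^ 2) r (m ^ 2) := by
      show B.xa u * B.v1 0 m r = B.xa (rt (u ^ 2)) * B.zl r * B.zs (rt (m ^ 2))
      rw [rt_sq, rt_sq, ← zz_v1, (B.zs_zl m r).eq, mul_assoc]
    obtain ⟨a', ha', w, w', hww, h1⟩ := inv_v1 (env_swap hE) (u ^ 2) r (m ^ 2) (by rw [← e]; exact hne)
    refine fin _ h.symm ⟨a', ha', rt w', w, ?_, ?_⟩
    · rcases hww with h2 | h2
      · exact Or.inr h2
      · exact Or.inl (fun h3 => h2 (rt_eq_zero h3))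
    · rw [e, h1]
      show B.zl w * B.zs (rt w') = B.zs (rt w') * B.zl w
      exact (B.zs_zl _ _).symm.eq

theorem o2_fact (W : Subgroup G) (hWP : W ≤ P1 B) (hn : ∀ x ∈ P1 B, ∀ y ∈ W, x⁻¹ * y * x ∈ W)
    (h2 : ∀ y ∈ W, ∃ k : ℕ, y ^ 2 ^ k = 1) : ∀ y ∈ W, ∃ s m r, y = B.v1 s m r := by
  have hn' : ∀ x ∈ P1 B, ∀ y ∈ W, x * y * x⁻¹ ∈ W := by
    intro x hx y hy
    have := hn x⁻¹ (inv_mem hx) y hy
    rwa [inv_inv] at this
  let Q : Subgroup G :=
    { carrier := {x | ∃ y ∈ W, ∃ u, IsU B u ∧ x = y * u}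
      mul_mem' := by
        rintro _ _ ⟨y, hy, u, hu, rfl⟩ ⟨y', hy', u', hu', rfl⟩
        refine ⟨y * (u * y' * u⁻¹), mul_mem hy (hn' u (isU_P1 hu) y' hy'), u * u', hu.mul hu', ?_⟩
        group
      one_mem' := ⟨1, one_mem _, 1, IsU.one, by group⟩
      inv_mem' := by
        rintro _ ⟨y, hy, u, hu, rfl⟩
        refine ⟨u⁻¹ * y⁻¹ * u, hn u (isU_P1 hu) _ (inv_mem hy), u⁻¹, hu.inv, ?_⟩
        group }
  have hU4 : ∀ u, IsU B u → u * u * (u * u) = 1 := by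
    rintro _ ⟨u, s, m, r, rfl⟩
    have h3 : B.xa u * B.v1 s m r * (B.xa u * B.v1 s m r) = B.v1 0 (u * s) (u ^ 2 * s) := by
      calc B.xa u * B.v1 s m r * (B.xa u * B.v1 s m r) = B.xa u * (B.v1 s m r * B.xa u) * B.v1 s m r := by group
        _ = (B.xa u * B.xa u) * (B.v1 s (m + u * s) (r + u ^ 2 * s) * B.v1 s m r) := by rw [v1_xa]; group
        _ = _ := by
          rw [B.xa_xa, B.v1_mul, one_mul]
          congr 1
          · exact CharTwo.add_self_eq_zero s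
          · rw [add_comm m, add_assoc, CharTwo.add_self_eq_zero, add_zero]
          · rw [add_comm r, add_assoc, CharTwo.add_self_eq_zero, add_zero]
    rw [h3, B.v1_v1]
  have hQ2 : ∀ x ∈ Q, ∃ k : ℕ, x ^ 2 ^ k = 1 := by
    rintro _ ⟨y, hy, u, hu, rfl⟩
    have h3 : ∃ y' ∈ W, (y * u) ^ 4 = y' := by
      refine ⟨y * (u * y * u⁻¹) * ((u * u) * (y * (u * y * u⁻¹)) * (u * u)⁻¹), ?_, ?_⟩
      · have h4 : y * (u * y * u⁻¹) ∈ W := mul_mem hy (hn' u (isU_P1 hu) y hy)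
        exact mul_mem h4 (hn' _ (isU_P1 (hu.mul hu)) _ h4)
      · have h5 := hU4 u hu
        calc (y * u) ^ 4 = y * (u * y * u⁻¹) * ((u * u) * (y * (u * y * u⁻¹)) * (u * u)⁻¹) * (u * u * (u * u)) := by
              rw [pow_succ, pow_succ, pow_succ, pow_one]; group
          _ = _ := by rw [h5, mul_one]
    obtain ⟨y', hy', h4⟩ := h3
    obtain ⟨k, hk⟩ := h2 y' hy'
    refine ⟨2 + k, ?_⟩
    rw [pow_add, pow_mul, show (2 : ℕ) ^ 2 = 4 by norm_num, h4, hk]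
  have hQA : Q ≤ A := by
    rintro _ ⟨y, hy, u, hu, rfl⟩
    exact mul_mem (hE.P1_le (hWP hy)) (hE.isU_mem hu)
  have hQU := hE.syl Q hQA hQ2 (fun u hu => ⟨1, one_mem _, u, hu, by group⟩)
  have hWU : ∀ y ∈ W, IsU B y := fun y hy => hQU y ⟨y, hy, 1, IsU.one, by group⟩
  intro y hy
  obtain ⟨u, s, m, r, h⟩ := hWU y hy
  have h3 : u = 0 := by
    by_contra hu
    apply hE.not_isU_xma hu
    have h4 : IsU B (B.na * y * B.na⁻¹) := hWU _ (hn' _ na_P1 y hy)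
    have h5 : B.na * y * B.na⁻¹ = (B.na * B.xa u * B.na⁻¹) * B.v1 r m s := by
      have h6 : B.na * B.v1 s m r * B.na⁻¹ = B.v1 r m s := by rw [B.na_v1]; group
      rw [h, ← h6]; group
    rw [h5] at h4
    exact isU_of_mul_right (IsU.v1 _ _ _) h4
  exact ⟨s, m, r, by rw [h, h3, B.xa_zero, one_mul]⟩

theorem pfacts (hF : 4 ≤ Nat.card F) : PFacts B (P1 B) (P1 (swap B)) A where
  perf1 := hE.perf1 hF
  t1 := fun x hx => hE.comm x (hE.P1_le hx)
  z1 := fun x hx w => hE.z1 hx w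
  max1 := by
    intro w hw Q hQ ht hz x hx
    exact cent_zs hE (hE.maxA Q hQ ht hx) hw (hz x hx)
  max2 := by
    intro w hw Q hQ ht hz x hx
    exact cent_zs (env_swap hE) (hE.maxA Q hQ ht hx) hw (hz x hx)
  mixed := by
    intro w w' hw hw' Q hQ ht hz
    rw [perf_isU (B := B) hQ (fun x hx => cent_mixed hE hF (hE.maxA Q hQ ht hx) hw hw' (hz x hx))]
  maxA := hE.maxA
  tA := hE.comm
  inv := inv_fact hE
  perf2 := (env_swap hE).perf1 hF
  t2 := fun x hx => hE.comm x ((env_swap hE).P1_le hx)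
  zs_mem := fun w => by rw [← Base.v1_zs]; exact v1_P1 _ _ _
  center1 := fun x hx hc => hE.center1 hx hc
  center2 := fun w x hx => (env_swap hE).z1 hx w
  zl_mem := fun w => by
    have h1 : (swap B).v1 0 w 0 = B.zl w := Base.v1_zs (B := swap B) w
    rw [← h1]; exact v1_P1 _ _ _
  v_mem := v1_P1
  v_norm := fun x hx s m r => (hE.v_norm_both hx s m r).1
  o2 := o2_fact hE
  h2 := by
    intro α β x hx
    have h1 := (env_swap hE).conj_h hx β (α ^ 2)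
    change B.h (rtU (α ^ 2)) β * x * (B.h (rtU (α ^ 2)) β)⁻¹ ∈ P1 (swap B) at h1
    rwa [rtU_sq] at h1
  split := fun x hx => hE.split hx
  l1 := L1_le
  tor := hE.tor

theorem leviSet : B.LeviSet (closure ({B.na} ∪ Set.range B.xa : Set G) : Set G) where
  xa_mem := xa_L1
  na_mem := na_L1
  h_mem := hE.tor
  t_comm := fun l hl => (hE.comm l (hE.P1_le (L1_le hl))).symm
  h_comm := by
    intro l hl β
    change l ∈ closure ({B.na} ∪ Set.range B.xa : Set G) at hl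
    induction hl using closure_induction with
    | mem y hy =>
      rcases hy with rfl | ⟨u, rfl⟩
      · show B.h 1 β * B.na = B.na * B.h 1 β
        rw [B.na_h, inv_one, one_pow, one_mul]
      · show B.h 1 β * B.xa u = B.xa u * B.h 1 β
        rw [B.h_xa, Units.val_one, one_mul]
    | one => exact Commute.one_right _
    | mul x y _ _ hx hy => exact hx.mul_right hy
    | inv x _ hx => exact hx.inv_right
  norm := fun l hl s m r => (hE.v_norm_both (L1_le hl) s m r).1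

/-- **Short layer**: exists when `t ~ t z`, `1 ≠ z ∈ Z_s`. -/
theorem exists_short [Finite G] (hF : 4 ≤ Nat.card F) {g : G} {w : F} (hw : w ≠ 0)
    (hg : g * B.t * g⁻¹ = B.t * B.zs w) : Nonempty (ShortLayer B) := by
  have := Fintype.ofFinite F
  have hF' : 4 ≤ Fintype.card F := by rwa [Nat.card_eq_fintype_card] at hF
  obtain ⟨n, hn⟩ := (pfacts hE hF).exists_mover hF' hw hg
  obtain ⟨m, hm, w1, hw1, h1⟩ := Base.exists_isN4 hF' (leviSet hE) hn
  obtain ⟨y, hy, h2, h3⟩ := Base.exists_isN4_comm hF' hm h1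
  exact Base.exists_shortLayer hF' hE.self ⟨hy, h3⟩ hw1 h2

omit hE in
/-- a short layer of `swap B` is a long layer of `B`. -/
noncomputable def longOfSwap (S : ShortLayer (swap B)) : LongLayer B where
  q := S.p
  e := rt S.e
  c := S.c
  q_zero := S.p_zero
  t_q := S.t_p
  q_xa := fun m s => by
    have h1 := S.p_xb m (s ^ 2)
    change Commute (S.p m) (B.xa (rt (s ^ 2))) at h1
    rwa [rt_sq] at h1
  q_zs := fun m s => by
    have h1 := S.p_zl m (s ^ 2)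
    change Commute (S.p m) (B.zs (rt (s ^ 2))) at h1
    rwa [rt_sq] at h1
  q_zl := S.p_zs
  q_q := S.p_p
  q_add := S.p_add
  q_sq := S.p_sq
  xb_q := by
    intro s r
    have h1 := S.xa_p (s ^ 2) (r ^ 2)
    change B.xb (s ^ 2) * S.p (r ^ 2) = S.p (r ^ 2) * B.xb (s ^ 2) * B.zs (rt (S.e * s ^ 2 * r ^ 2)) at h1
    rw [h1, rt_mul, rt_mul, rt_sq, rt_sq, mul_assoc (rt S.e)]
  h_q := by
    intro α β r
    have h1 := S.h_p β (α ^ 2) r
    change B.h (rtU (α ^ 2)) β * S.p r = S.p (β * (α ^ 2 : Fˣ) * r) * B.h (rtU (α ^ 2)) β at h1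
    rw [rtU_sq] at h1
    rw [h1, Units.val_pow_eq_pow_val, mul_comm (β : F)]

/-- **Long layer**: exists when `t ~ t z`, `1 ≠ z ∈ Z_l`. -/
theorem exists_long [Finite G] (hF : 4 ≤ Nat.card F) {g : G} {w : F} (hw : w ≠ 0)
    (hg : g * B.t * g⁻¹ = B.t * B.zl w) : Nonempty (LongLayer B) := by
  obtain ⟨S⟩ := exists_short (env_swap hE) hF hw hg
  exact ⟨longOfSwap S⟩

end EnvFacts

end Cfsg.Agent.StdSpFour
end
end

-- part: StdSpFour/SpEnv
section
prune_inst 0x7f020100020410002000000000000002000000000000003000031c00200020a50238506260030400e000900882020080000000000090030000000000e004005010000a242003300a10426000e00f800000000000000000000000000000000041000000000000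
set_option linter.all false
open scoped Cfsg.Agent.FastGrp

/-!
# The environment `Env` of type `Sp₄`

`env`: `Env (SpFrame.base S ..) A` from a package `S` of `A`, `Amb A t`, `Sch A`.
-/

set_option autoImplicit false
set_option linter.unusedSectionVars false

namespace Cfsg.Agent.StdSpFour.SpEnv

open Subgroup
open Cfsg.Agent.TitsThree.B2Pkg Cfsg.Agent.TitsThree.RankTwoIdentB2
  Cfsg.Agent.TitsThree.CoreB2 Cfsg.Agent.TitsThree.RankTwoIdx Cfsg.Agent.TitsThree.RankTwoRGD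
  Cfsg.Agent.TitsThree.StdData
open Cfsg.Agent.StdRank2 Cfsg.Agent.StdRank2.OddLift Cfsg.Agent.StdRank2.B2Lift Cfsg.Agent.StdRank2.B2Std
  Cfsg.Agent.StdRank2.B2Torus Cfsg.Agent.StdRank2.B2Act Cfsg.Agent.StdRank2.B2Act.Std
  Cfsg.Agent.StdRank2.B2Par Cfsg.Agent.StdRank2.B2Par.Std
  Cfsg.Agent.StdRank2.B2Amb Cfsg.Agent.StdRank2.SpFrame Cfsg.Agent.StdRank2.SpSelf
open Cfsg.Agent.Schreier.Basic
open scoped commutatorElement Pointwise

universe u

variable {F : Type*} [Field F] [Finite F] [CharP F 2]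

section word

variable {A : Type u} [Group A] (S : Std (stdSp F) A)

theorem exists_h (hZ : center A = ⊥) {g : A} (hg : g ∈ S.H) : ∃ α β : Fˣ, g = SpFrame.h S α β := by
  obtain ⟨l, μ, ν, ht⟩ := exists_tact S.rel S.hp₀ scal_Sp hg
  have hα : l * μ⁻¹ ≠ 0 := mul_ne_zero ht.l0 (inv_ne_zero ht.μ0)
  have hβ : μ * μ ≠ 0 := mul_ne_zero ht.μ0 ht.μ0
  refine ⟨Units.mk0 _ hα, Units.mk0 _ hβ, ?_⟩
  apply SpFrame.eq_of_act S hZ
  · intro a
    rw [ht.x a, SpFrame.h_x]; rfl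
  · intro a
    rw [ht.x' a, SpFrame.h_x']
    congr 1
    show l⁻¹ * μ * a = (l * μ⁻¹)⁻¹ * a
    rw [mul_inv, inv_inv]
  · intro a
    obtain ⟨q, -, h2, h3⟩ := ht.z₂ (tt a)
    rw [h3, SpFrame.h_z₂, eq_tt q, h2]; rfl
  · intro a
    obtain ⟨q, -, h2, h3⟩ := ht.z₂' (tt a)
    rw [h3, SpFrame.h_z₂', eq_tt q, h2]
    congr 2
    show μ⁻¹ * μ⁻¹ * a = (μ * μ)⁻¹ * a
    rw [mul_inv]

/-- the eight Weyl words -/
def IsWd (n : A) : Prop :=
  n = 1 ∨ n = na S ∨ n = nb S ∨ n = na S * nb S ∨ n = nb S * na S ∨ n = na S * nb S * na S ∨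
    n = nb S * na S * nb S ∨ n = na S * nb S * na S * nb S

/-- `y ∈ H w` -/
def Q (w y : A) : Prop := ∃ α β : Fˣ, y = SpFrame.h S α β * w

variable {S}

theorem Q.I (hZ : center A = ⊥) {w y : A} (h : Q S w y) : Q S (na S * w) (S.m.nI * y) := by
  obtain ⟨α, β, rfl⟩ := h
  refine ⟨α⁻¹, α ^ 2 * β, ?_⟩
  have h1 := mul_inv_eq_iff_eq_mul.1 (na_h S hZ α β)
  calc S.m.nI * (SpFrame.h S α β * w) = (na S * SpFrame.h S α β) * w := by rw [mul_assoc]; rfl
    _ = _ := by rw [h1, mul_assoc]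

theorem Q.J (hZ : center A = ⊥) {w y : A} (h : Q S w y) : Q S (nb S * w) (S.m.nII S.p₀ * y) := by
  obtain ⟨α, β, rfl⟩ := h
  obtain ⟨α0, β0, h0⟩ := exists_h S hZ (hII_mem (m := S.m) S.hp₀ one_c)
  refine ⟨α0 * (α * β), β0 * β⁻¹, ?_⟩
  have h1 := mul_inv_eq_iff_eq_mul.1 (nb_h S hZ α β)
  have h2 : S.m.nII S.p₀ = SpFrame.h S α0 β0 * nb S := by rw [← h0]; unfold nb; group
  calc S.m.nII S.p₀ * (SpFrame.h S α β * w) = SpFrame.h S α0 β0 * (nb S * SpFrame.h S α β) * w := by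
        rw [h2]; simp only [mul_assoc]
    _ = _ := by rw [h1, SpFrame.h_mul S hZ]; simp only [mul_assoc]

theorem Q.one (hZ : center A = ⊥) : Q S 1 1 := ⟨1, 1, by
  have := SpFrame.h_mul S hZ 1 1 1 1
  rw [mul_one] at this
  rw [mul_one]
  exact (left_eq_mul.1 this).symm⟩

theorem exists_word (hZ : center A = ⊥)
    (hbr : na S * nb S * na S * nb S = nb S * na S * nb S * na S) {k : ℕ} (hk : k ≤ 4) {y : A}
    (hy : y = alt S.m.nI (S.m.nII S.p₀) k ∨ y = alt (S.m.nII S.p₀) S.m.nI k) :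
    ∃ n, IsWd S n ∧ Q S n y := by
  have q0 := Q.one (S := S) hZ
  have i1 := q0.I hZ
  have j1 := q0.J hZ
  have i2 := j1.I hZ
  have j2 := i1.J hZ
  have i3 := j2.I hZ
  have j3 := i2.J hZ
  have i4 := j3.I hZ
  have j4 := i3.J hZ
  simp only [mul_one] at i1 j1 i2 j2 i3 j3 i4 j4
  have ei : ∀ k, alt S.m.nI (S.m.nII S.p₀) (k + 1) = S.m.nI * alt (S.m.nII S.p₀) S.m.nI k := fun k => rfl
  have ej : ∀ k, alt (S.m.nII S.p₀) S.m.nI (k + 1) = S.m.nII S.p₀ * alt S.m.nI (S.m.nII S.p₀) k := fun k => rfl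
  interval_cases k
  · rcases hy with rfl | rfl
    · exact ⟨1, Or.inl rfl, q0⟩
    · exact ⟨1, Or.inl rfl, q0⟩
  · rcases hy with rfl | rfl
    · refine ⟨na S, Or.inr (Or.inl rfl), ?_⟩
      rw [ei, alt_zero, mul_one]; exact i1
    · refine ⟨nb S, Or.inr (Or.inr (Or.inl rfl)), ?_⟩
      rw [ej, alt_zero, mul_one]; exact j1
  · rcases hy with rfl | rfl
    · refine ⟨na S * nb S, Or.inr (Or.inr (Or.inr (Or.inl rfl))), ?_⟩
      rw [ei, ej, alt_zero, mul_one]; exact i2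
    · refine ⟨nb S * na S, Or.inr (Or.inr (Or.inr (Or.inr (Or.inl rfl)))), ?_⟩
      rw [ej, ei, alt_zero, mul_one]; exact j2
  · rcases hy with rfl | rfl
    · refine ⟨na S * nb S * na S, Or.inr (Or.inr (Or.inr (Or.inr (Or.inr (Or.inl rfl))))), ?_⟩
      rw [ei, ej, ei, alt_zero, mul_one, mul_assoc]; exact i3
    · refine ⟨nb S * na S * nb S, Or.inr (Or.inr (Or.inr (Or.inr (Or.inr (Or.inr (Or.inl rfl)))))), ?_⟩
      rw [ej, ei, ej, alt_zero, mul_one, mul_assoc]; exact j3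
  · rcases hy with rfl | rfl
    · refine ⟨na S * nb S * na S * nb S, Or.inr (Or.inr (Or.inr (Or.inr (Or.inr (Or.inr (Or.inr rfl)))))), ?_⟩
      rw [ei, ej, ei, ej, alt_zero, mul_one, mul_assoc, mul_assoc]; exact i4
    · refine ⟨na S * nb S * na S * nb S, Or.inr (Or.inr (Or.inr (Or.inr (Or.inr (Or.inr (Or.inr rfl)))))), ?_⟩
      rw [hbr, ej, ei, ej, ei, alt_zero, mul_one, mul_assoc, mul_assoc]; exact j4

/-- **Bruhat decomposition** in the words `na`, `nb`. -/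
theorem bruhat (hZ : center A = ⊥) (hbr : na S * nb S * na S * nb S = nb S * na S * nb S * na S) (g : A) :
    ∃ u ∈ S.U, ∃ α β n, IsWd S n ∧ ∃ u' ∈ S.U, g = u * SpFrame.h S α β * n * u' := by
  have h0 : g ∈ S.r2.U ⊔ S.r2.H ⊔ (S.r2.XI' ⊔ S.r2.XJ') := by
    have : g ∈ S.r2.core.G := by rw [S.core_G]; exact mem_top g
    exact this
  obtain ⟨b, hb, k, hk, b', hb', hy⟩ := S.r2.bruhat h0
  have eB : S.r2.U ⊔ S.r2.H = S.U ⊔ S.H := by rw [S.r2_U]; rfl
  rw [eB] at hb hb'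
  obtain ⟨u, hu, h, hh, rfl⟩ := mem_B.1 hb
  obtain ⟨u2, hu2, h2, hh2, e2⟩ := mem_B.1 (inv_mem hb')
  have eI : S.r2.nI = S.m.nI := core_nI (S := S)
  have eJ : S.r2.nJ = S.m.nII S.p₀ := rfl
  rw [eI, eJ] at hy
  obtain ⟨y, hy1, hy2⟩ : ∃ y, (y = alt S.m.nI (S.m.nII S.p₀) k ∨ y = alt (S.m.nII S.p₀) S.m.nI k) ∧
      g = u * h * y * b' := by
    rcases hy with hy | hy
    · exact ⟨_, Or.inl rfl, hy⟩
    · exact ⟨_, Or.inr rfl, hy⟩
  obtain ⟨n, hn, α, β, hq⟩ := exists_word hZ hbr hk hy1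
  obtain ⟨α1, β1, h1⟩ := exists_h S hZ hh
  obtain ⟨α2, β2, h3⟩ := exists_h S hZ (inv_mem hh2)
  have hb2 : b' = h2⁻¹ * u2⁻¹ := by rw [← mul_inv_rev, ← e2, inv_inv]
  -- move `h2⁻¹` to the left through the word
  obtain ⟨α3, β3, h4⟩ : ∃ α β : Fˣ, n * SpFrame.h S α2 β2 = SpFrame.h S α β * n := by
    have hna : ∀ α β : Fˣ, na S * SpFrame.h S α β = SpFrame.h S α⁻¹ (α ^ 2 * β) * na S :=
      fun α β => mul_inv_eq_iff_eq_mul.1 (na_h S hZ α β)
    have hnb : ∀ α β : Fˣ, nb S * SpFrame.h S α β = SpFrame.h S (α * β) β⁻¹ * nb S :=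
      fun α β => mul_inv_eq_iff_eq_mul.1 (nb_h S hZ α β)
    have key : ∀ {n : A}, IsWd S n → ∀ α β : Fˣ, ∃ α' β' : Fˣ, n * SpFrame.h S α β = SpFrame.h S α' β' * n := by
      have k1 : ∀ {m n : A}, (∀ α β : Fˣ, ∃ α' β' : Fˣ, m * SpFrame.h S α β = SpFrame.h S α' β' * m) →
          (∀ α β : Fˣ, ∃ α' β' : Fˣ, n * SpFrame.h S α β = SpFrame.h S α' β' * n) →
          ∀ α β : Fˣ, ∃ α' β' : Fˣ, m * n * SpFrame.h S α β = SpFrame.h S α' β' * (m * n) := by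
        intro m n hm hn α β
        obtain ⟨a1, b1, e1⟩ := hn α β
        obtain ⟨a2, b2, e2⟩ := hm a1 b1
        exact ⟨a2, b2, by rw [mul_assoc, e1, ← mul_assoc, e2, mul_assoc]⟩
      have ka : ∀ α β : Fˣ, ∃ α' β' : Fˣ, na S * SpFrame.h S α β = SpFrame.h S α' β' * na S :=
        fun α β => ⟨_, _, hna α β⟩
      have kb : ∀ α β : Fˣ, ∃ α' β' : Fˣ, nb S * SpFrame.h S α β = SpFrame.h S α' β' * nb S :=
        fun α β => ⟨_, _, hnb α β⟩
      intro n hn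
      rcases hn with rfl | rfl | rfl | rfl | rfl | rfl | rfl | rfl
      · exact fun α β => ⟨α, β, by rw [one_mul, mul_one]⟩
      · exact ka
      · exact kb
      · exact k1 ka kb
      · exact k1 kb ka
      · exact k1 (k1 ka kb) ka
      · exact k1 (k1 kb ka) kb
      · exact k1 (k1 (k1 ka kb) ka) kb
    exact key hn α2 β2
  refine ⟨u, hu, α1 * (α * α3), β1 * (β * β3), n, hn, u2⁻¹, inv_mem hu2, ?_⟩
  rw [hy2, hq, hb2, h1, h3, SpFrame.h_mul S hZ, SpFrame.h_mul S hZ]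
  calc u * SpFrame.h S α1 β1 * (SpFrame.h S α β * n) * (SpFrame.h S α2 β2 * u2⁻¹)
      = u * SpFrame.h S α1 β1 * SpFrame.h S α β * (n * SpFrame.h S α2 β2) * u2⁻¹ := by simp only [mul_assoc]
    _ = _ := by rw [h4]; simp only [mul_assoc]

end word

section env

variable {G : Type u} [Group G] {A : Subgroup G} (S : Std (stdSp F) ↥A)

theorem isU_iff (hZ : center ↥A = ⊥) {t : G} (htt : t * t = 1) (htA : t ∈ centralizer (A : Set G)) (htn : t ∉ A)
    {g : G} : Env.IsU (SpFrame.base S hZ htt htA htn) g ↔ ∃ u ∈ S.U, (u : G) = g := by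
  have e : ∀ a s m r : F, (SpFrame.base S hZ htt htA htn).xa a * (SpFrame.base S hZ htt htA htn).v1 s m r =
      ((B2Std.nf S.m a (tt r) m (tt s) : ↥A) : G) := by
    intro a s m r
    rw [← eq_nf]
    show (S.m.x a : G) * ((S.m.z₂ (tt s) : G) * (S.m.y m : G) * (S.m.z₁ (tt r) : G)) =
      (S.m.x a : G) * (S.m.z₂ (tt s) : G) * (S.m.y m : G) * (S.m.z₁ (tt r) : G)
    simp only [mul_assoc]
  constructor
  · rintro ⟨a, s, m, r, h⟩
    refine ⟨_, B2Std.nf_mem a (tt r) m (tt s), ?_⟩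
    rw [h, e]
  · rintro ⟨u, hu, h⟩
    obtain ⟨a, p, b, q, rfl⟩ := exists_nf_sp S hu
    exact ⟨a, q, b, p, by rw [← h, e]⟩

/-- perfect subgroups of `C(t)` lie in `A` -/
theorem maxA {t : G} (h : Amb A t) (hS : Sch ↥A) {Q : Subgroup G} (hQ : ⁅Q, Q⁆ = Q) (hQt : ∀ x ∈ Q, Commute x t) :
    Q ≤ A := by
  have hQN : Q ≤ normalizer (A : Set G) := by
    intro x hx
    rw [mem_normalizer_iff]
    intro a
    refine ⟨h.nor x (hQt x hx) a, fun ha => ?_⟩
    have h1 := h.nor x⁻¹ (hQt x hx).inv_left _ ha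
    rwa [show x⁻¹ * (x * a * x⁻¹) * x⁻¹⁻¹ = a by group] at h1
  have hinner : ∀ x ∈ Q, ∃ a ∈ A, a⁻¹ * x = 1 ∨ a⁻¹ * x = t := by
    let f : ↥(normalizer (A : Set G)) →* MulAut ↥A := A.normalizerMonoidHom
    have h1 : ⁅(Q.subgroupOf (normalizer (A : Set G))).map f, (Q.subgroupOf (normalizer (A : Set G))).map f⁆ =
        (Q.subgroupOf (normalizer (A : Set G))).map f := by
      apply map_perfect
      apply Subgroup.map_injective (normalizer (A : Set G)).subtype_injective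
      rw [Subgroup.map_commutator, subgroupOf_map_subtype, inf_eq_left.mpr hQN, hQ]
    have h2 := hS _ h1
    intro x hx
    obtain ⟨a, ha⟩ := h2 ⟨⟨x, hQN hx⟩, mem_subgroupOf.mpr hx, rfl⟩
    refine ⟨a, a.2, ?_⟩
    have hat : Commute (a : G) t := (h.comm a a.2).symm
    apply h.cen
    · exact (hat.inv_left.mul_left (hQt x hx)).eq
    · intro b hb
      have h3 := congrArg (fun φ : MulAut ↥A => ((φ ⟨b, hb⟩ : A) : G)) ha
      have h4 : (a : G) * b * (a : G)⁻¹ = x * b * x⁻¹ := h3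
      calc (a : G)⁻¹ * x * b = (a : G)⁻¹ * (x * b * x⁻¹) * x := by group
        _ = (a : G)⁻¹ * (a * b * (a : G)⁻¹) * x := by rw [h4]
        _ = b * ((a : G)⁻¹ * x) := by group
  rw [← hQ, commutator_le]
  intro x hx y hy
  obtain ⟨a, ha, h1⟩ := hinner x hx
  obtain ⟨b, hb, h2⟩ := hinner y hy
  have cx : ∃ s : G, x = a * s ∧ Commute s t ∧ (∀ c ∈ A, Commute s c) := by
    refine ⟨a⁻¹ * x, by group, ?_, ?_⟩
    · rcases h1 with h1 | h1
      · rw [h1]; exact Commute.one_left _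
      · rw [h1]
    · intro c hc
      rcases h1 with h1 | h1
      · rw [h1]; exact Commute.one_left _
      · rw [h1]; exact h.comm c hc
  have cy : y = b ∨ y = b * t := by
    rcases h2 with h2 | h2
    · left; exact (inv_mul_eq_one.1 h2).symm
    · right; rw [← h2]; group
  obtain ⟨s, rfl, hst, hsA⟩ := cx
  have hsb := hsA b hb
  have hsa := hsA a ha
  have hta : Commute t a := h.comm a ha
  have e : ⁅a * s, y⁆ = ⁅a, b⁆ := by
    rw [commutatorElement_def, commutatorElement_def, mul_inv_rev]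
    rcases cy with rfl | rfl
    · calc a * s * y * (s⁻¹ * a⁻¹) * y⁻¹ = a * (s * y) * (s⁻¹ * a⁻¹) * y⁻¹ := by group
        _ = _ := by rw [hsb.eq]; group
    · have htb : Commute t b := h.comm b hb
      calc a * s * (b * t) * (s⁻¹ * a⁻¹) * (b * t)⁻¹ = a * (s * b) * t * (s⁻¹ * a⁻¹) * t⁻¹ * b⁻¹ := by group
        _ = a * b * (s * t) * s⁻¹ * a⁻¹ * t⁻¹ * b⁻¹ := by rw [hsb.eq]; group
        _ = a * b * (t * a⁻¹) * t⁻¹ * b⁻¹ := by rw [hst.eq]; group
        _ = _ := by rw [hta.inv_right.eq]; group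
  rw [e, commutatorElement_def]
  exact mul_mem (mul_mem (mul_mem ha hb) (inv_mem ha)) (inv_mem hb)

variable [Finite G]

/-- **the environment** -/
theorem env (hF : 3 ≤ Nat.card F) (hZ : center ↥A = ⊥) {t : G} (h : Amb A t) (hS : Sch ↥A) (htt : t * t = 1)
    (htA : t ∈ centralizer (A : Set G)) (htn : t ∉ A) : Env (SpFrame.base S hZ htt htA htn) A where
  weyl := Weyl.base S hZ htt htA htn
  self := base_self S hF hZ h htt htA htn
  xa_mem u := (S.m.x u).2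
  xb_mem u := (S.m.z₂ (tt u)).2
  zs_mem u := (S.m.y u).2
  zl_mem u := (S.m.z₁ (tt u)).2
  na_mem := (SpFrame.na S).2
  nb_mem := (SpFrame.nb S).2
  h_mem α β := (SpFrame.h S α β).2
  comm x hx := (h.comm x hx).symm
  t_nm := htn
  maxA := fun Q hQ hQt => maxA h hS hQ hQt
  bruhat := by
    intro g hg
    have hW := Weyl.base S hZ htt htA htn
    have hbr : SpFrame.na S * SpFrame.nb S * SpFrame.na S * SpFrame.nb S =
        SpFrame.nb S * SpFrame.na S * SpFrame.nb S * SpFrame.na S :=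
      A.subtype_injective (EnvSwap.braid' hW)
    obtain ⟨u, hu, α, β, n, hn, u', hu', e⟩ := bruhat hZ hbr (⟨g, hg⟩ : ↥A)
    refine ⟨u, (isU_iff S hZ htt htA htn).2 ⟨u, hu, rfl⟩, α, β, n, ?_, u',
      (isU_iff S hZ htt htA htn).2 ⟨u', hu', rfl⟩, congrArg Subtype.val e⟩
    rcases hn with rfl | rfl | rfl | rfl | rfl | rfl | rfl | rfl
    · exact Or.inl rfl
    · exact Or.inr (Or.inl rfl)
    · exact Or.inr (Or.inr (Or.inl rfl))
    · exact Or.inr (Or.inr (Or.inr (Or.inl rfl)))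
    · exact Or.inr (Or.inr (Or.inr (Or.inr (Or.inl rfl))))
    · exact Or.inr (Or.inr (Or.inr (Or.inr (Or.inr (Or.inl rfl)))))
    · exact Or.inr (Or.inr (Or.inr (Or.inr (Or.inr (Or.inr (Or.inl rfl))))))
    · exact Or.inr (Or.inr (Or.inr (Or.inr (Or.inr (Or.inr (Or.inr rfl))))))
  syl := by
    intro Q hQA hQ2 hUQ x hx
    obtain ⟨P, hP⟩ := B2Torus.Std.exists_sylow S scal_Sp (by rw [hZ, Subgroup.card_bot]; exact odd_one)
    have h1 : IsPGroup 2 ↥(Q.subgroupOf A) := by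
      rintro ⟨y, hy⟩
      obtain ⟨k, hk⟩ := hQ2 y (mem_subgroupOf.1 hy)
      exact ⟨k, Subtype.ext (Subtype.ext (by simpa using hk))⟩
    have h2 : (P : Subgroup ↥A) ≤ Q.subgroupOf A := by
      intro y hy
      rw [hP] at hy
      exact mem_subgroupOf.2 (hUQ y ((isU_iff S hZ htt htA htn).2 ⟨y, hy, rfl⟩))
    have h3 := P.is_maximal' h1 h2
    have h4 : (⟨x, hQA hx⟩ : ↥A) ∈ Q.subgroupOf A := mem_subgroupOf.2 hx
    rw [h3, hP] at h4
    exact (isU_iff S hZ htt htA htn).2 ⟨_, h4, rfl⟩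
  conjU := by
    intro x hx hxx
    have : Fact (Nat.Prime 2) := ⟨Nat.prime_two⟩
    obtain ⟨P, hP⟩ := B2Torus.Std.exists_sylow S scal_Sp (by rw [hZ, Subgroup.card_bot]; exact odd_one)
    have h1 : IsPGroup 2 ↥(zpowers (⟨x, hx⟩ : ↥A)) := by
      rintro ⟨y, hy⟩
      obtain ⟨k, rfl⟩ := mem_zpowers_iff.1 hy
      refine ⟨1, Subtype.ext ?_⟩
      show ((⟨x, hx⟩ : ↥A) ^ k) ^ 2 ^ 1 = 1
      have h2 : (⟨x, hx⟩ : ↥A) * ⟨x, hx⟩ = 1 := Subtype.ext hxx
      rw [pow_one, pow_two, ← zpow_add, ← two_mul, zpow_mul, zpow_two, h2, one_zpow]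
    obtain ⟨R, hR⟩ := h1.exists_le_sylow
    obtain ⟨g, hg⟩ := MulAction.exists_smul_eq ↥A R P
    have h3 : g * ⟨x, hx⟩ * g⁻¹ ∈ (P : Subgroup ↥A) := by
      rw [← hg, Sylow.coe_subgroup_smul]
      exact ⟨⟨x, hx⟩, hR (mem_zpowers _), rfl⟩
    rw [hP] at h3
    refine ⟨(g : G)⁻¹, inv_mem g.2, (isU_iff S hZ htt htA htn).2 ⟨_, h3, ?_⟩⟩
    show (g : G) * x * (g : G)⁻¹ = (g : G)⁻¹⁻¹ * x * (g : G)⁻¹
    rw [inv_inv]

end env

end Cfsg.Agent.StdSpFour.SpEnv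

private theorem dce_5f02abf78bef : _root_.True := by
  try have : _root_.True := by simp only [_root_.Cfsg.Agent.StdRank2.SpFrame.h.congr_simp]
  try have : _root_.True := by simp only [_root_.Cfsg.Agent.StdSpFour.SpEnv.Q.congr_simp]
  exact _root_.True.intro
end
end
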